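import Groth.Prelude.Def_CurvBase
import Groth.Prelude.Def_Pic
import Groth.Agent.ParaFLib.Stalk
import Groth.Agent.PullbackMod.LocFree
import Groth.Agent.DevLib.Piece
import Groth.Agent.QCohLib.Coherent
import Groth.Agent.GrothVan.Support

/-!
# Maps of invertible modules on integral schemes of dimension one
-/

set_option autoImplicit false
set_option backward.isDefEq.respectTransparency false
set_option linter.style.haveILetI false

universe u

open CategoryTheory CategoryTheory.Limits AlgebraicGeometry TopologicalSpace Opposite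
open Groth.Agent.PullbackMod

noncomputable section

namespace Groth.Agent.CurveLib

variable {X : Scheme.{u}}

theorem isFinLocFree_of_isInvertible {L : X.Modules} (hL : PicF.IsInvertible L) : FlatMod.IsFinLocFree L := fun x => by
  obtain ⟨U, hx, ⟨e⟩⟩ := hL x
  exact ⟨U, 1, hx, ⟨e ≪≫ (coproductUniqueIso fun _ : Fin 1 => Coh.structureModule (↑U : Scheme.{u})).symm⟩⟩

theorem isCoh_of_isFinLocFree [IsLocallyNoetherian X] {M : X.Modules} (hM : FlatMod.IsFinLocFree M) :
    Coh.IsCoh M := by
  obtain ⟨hq, hfp⟩ := isQCoh_and_isFP_of_isFinLocFree M hM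
  exact (QCohLib.isCoh_iff_isFP M).2 hfp

theorem isCoh_of_isInvertible [IsLocallyNoetherian X] {L : X.Modules} (hL : PicF.IsInvertible L) : Coh.IsCoh L :=
  isCoh_of_isFinLocFree (isFinLocFree_of_isInvertible hL)

variable [IsIntegral X] {N L : X.Modules}

theorem bijective_stalkLin_generic (hN : PicF.IsInvertible N) (hL : PicF.IsInvertible L) {φ : N ⟶ L}
    (hφ : φ ≠ 0) : Function.Bijective (stalkLin φ (genericPoint X)) := by
  let η := genericPoint X
  obtain ⟨e, he⟩ := ParaFLib.exists_stalk_gen hN η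
  obtain ⟨e', he'⟩ := ParaFLib.exists_stalk_gen hL η
  obtain ⟨a, ha⟩ := he'.2 (stalkLin φ η e)
  change a • e' = _ at ha
  have key : ∀ r : X.presheaf.stalk η, stalkLin φ η (r • e) = (r * a) • e' := fun r => by
    rw [map_smul, ← ha, mul_smul]
  have ha0 : a ≠ 0 := fun h => by
    refine ParaFLib.stalkLin_generic_ne_zero hL hφ (LinearMap.ext fun z => ?_)
    obtain ⟨r, rfl⟩ := he.2 z
    show stalkLin φ η (r • e) = _
    rw [key, h, mul_zero, zero_smul]
    rfl
  haveI : IsUnit a := (Ne.isUnit ha0 : IsUnit (a : X.functionField))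
  refine (Function.Bijective.of_comp_iff (stalkLin φ η) he).1 ?_
  rw [show (stalkLin φ η ∘ fun r : X.presheaf.stalk η => r • e) = (fun r => r • e') ∘ fun r => r * a from funext key]
  exact he'.comp this.unit.mulRight.bijective

theorem mono_of_ne_zero (hN : PicF.IsInvertible N) (hL : PicF.IsInvertible L) {φ : N ⟶ L} (hφ : φ ≠ 0) :
    Mono φ := by
  refine (mono_iff_stalk φ).2 fun x => (injective_iff_map_eq_zero _).2 fun z hz => ?_
  obtain ⟨U, hx, σ, rfl⟩ := TopCat.Presheaf.exists_germ_eq N.presheaf z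
  rw [stalkLin_germ] at hz
  obtain ⟨V, hxV, i, i', e⟩ := TopCat.Presheaf.germ_eq L.presheaf x hx hx _ 0 (hz.trans (map_zero _).symm)
  rw [map_zero] at e
  rw [← TopCat.Presheaf.germ_res_apply N.presheaf i x hxV]
  have : N.presheaf.map i.op σ = 0 := by
    refine ParaFLib.eq_zero_of_germ_generic hN _ fun hη => (bijective_stalkLin_generic hN hL hφ).1 ?_
    rw [stalkLin_germ, map_zero]
    refine (congrArg (L.presheaf.germ V _ hη) ?_).trans (map_zero _)
    exact (NatTrans.naturality_apply φ.mapPresheaf i.op σ).trans e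
  rw [this, map_zero]

theorem genericPoint_notMem_support (hN : PicF.IsInvertible N) (hL : PicF.IsInvertible L) {φ : N ⟶ L}
    (hφ : φ ≠ 0) [Mono φ] : genericPoint X ∉ CohB1.support (cokernel φ) :=
  fun h => h (DevLib.subsingleton_coker φ (bijective_stalkLin_generic hN hL hφ).2)

omit [IsIntegral X] in
theorem dim_le_zero_of_notMem [IrreducibleSpace X] (hdim : topologicalKrullDim X ≤ 1) {C : Set X} (hC : IsClosed C)
    {η : X} (hη : IsGenericPoint η Set.univ) (h : η ∉ C) : topologicalKrullDim C ≤ 0 := by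
  refine Order.krullDim_nonpos_iff_forall_isMax.2 fun Z Z' hle => ?_
  by_contra hne
  let ι : IrreducibleCloseds C → IrreducibleCloseds X := IrreducibleCloseds.map _ continuous_subtype_val
  have hι : StrictMono ι := IrreducibleCloseds.map_strictMono_of_isInducing Topology.IsInducing.subtypeVal
  let T : IrreducibleCloseds X := ⟨Set.univ, ⟨⟨η, trivial⟩, PreirreducibleSpace.isPreirreducible_univ⟩, isClosed_univ⟩
  have hlt : ι Z < ι Z' := hι (lt_of_le_not_ge hle hne)
  have hsub : ((ι Z' : IrreducibleCloseds X) : Set X) ⊆ C :=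
    closure_minimal (by rintro _ ⟨x, -, rfl⟩; exact x.2) hC
  have hlt' : ι Z' < T := SetLike.coe_ssubset_coe.1 ⟨Set.subset_univ _, fun hh => h (hsub (hh trivial))⟩
  let p : LTSeries (IrreducibleCloseds X) :=
    LTSeries.mk 2 ![ι Z, ι Z', T] (Fin.strictMono_iff_lt_succ.2 fun i => by fin_cases i <;> simpa)
  have := (Order.LTSeries.length_le_krullDim p).trans hdim
  exact absurd this (by show ¬((2 : ℕ) : WithBot ℕ∞) ≤ 1; decide)

end Groth.Agent.CurveLib
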