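import Groth.Agent.CurveLib.DegTensor

/-!
# Tensoring a short exact sequence with a locally free module
-/

set_option autoImplicit false
set_option backward.isDefEq.respectTransparency false
set_option linter.style.haveILetI false

universe u

open CategoryTheory CategoryTheory.Limits AlgebraicGeometry TopologicalSpace Opposite
open Groth.Agent.PullbackMod Groth.Agent.DCohLib
open scoped TensorProduct

noncomputable section

namespace Groth.Agent.CurveLib

variable {X : Scheme.{u}}

/-- `(- ⊗ E)`. -/
abbrev tensR (E : X.Modules) : X.Modules ⥤ X.Modules := (DCoh.tensorBi (X := X)).flip.obj E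

instance additive_tensR (E : X.Modules) : (tensR E).Additive :=
  ModTensor.additive_tensorBi_flip X.sheaf E

instance preservesFiniteColimits_tensR (E : X.Modules) : PreservesFiniteColimits (tensR E) :=
  ModTensor.preservesFiniteColimits_tensorBi_flip X.sheaf E

theorem shortExact_tensR {S : ShortComplex X.Modules} (hS : S.ShortExact) {E : X.Modules} {n : ℕ}
    (hE : ∀ x, FreeAt n E x) : (S.map (tensR E)).ShortExact := by
  haveI := hS.epi_g
  haveI := hS.mono_f
  exact { exact := hS.exact.map_of_epi_of_preservesCokernel _ hS.epi_g inferInstance
          mono_f := mono_tmap S.f hE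
          epi_g := (inferInstance : Epi ((tensR E).map S.g)) }

theorem freeAt_one_of_isInvertible {L : X.Modules} (hL : PicF.IsInvertible L) (x : X) : FreeAt 1 L x :=
  freeAt_of_isFinLocFreeOfRank (isFinLocFreeOfRank_one hL) x

end Groth.Agent.CurveLib
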