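import Groth.Agent.CurveLib.Sections
import Groth.Agent.CurveLib.TensorExact
import Groth.Agent.AmpleLib.GenLocus
import Groth.Agent.AmpleLib.Tensor

/-!
# Twisting by sections, linearly in the section
-/

set_option autoImplicit false
set_option backward.isDefEq.respectTransparency false
set_option linter.style.haveILetI false

universe u

open CategoryTheory CategoryTheory.Limits AlgebraicGeometry TopologicalSpace Opposite
open Groth.Agent.PullbackMod Groth.Agent.DCohLib Groth.Agent.CohBase Groth.Agent.ParaFLib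
open scoped TensorProduct

noncomputable section

namespace Groth.Agent.CurveLib

variable {X : Scheme.{u}}

/-- `A ⊗ u`. -/
abbrev mulS (A : X.Modules) {N : X.Modules} (u : Coh.structureModule X ⟶ N) :
    tmod A (Coh.structureModule X) ⟶ tmod A N :=
  ((DCoh.tensorBi (X := X)).obj A).map u

theorem secHom_add {N : X.Modules} (σ τ : Γ(N, ⊤)) :
    DCohLib.secHom N (σ + τ) = DCohLib.secHom N σ + DCohLib.secHom N τ := by
  refine DCohLib.hom_unit_ext ?_
  rw [Scheme.Modules.Hom.add_app]
  exact (AmpleLib.sec_secHom _).trans (congrArg₂ (· + ·) (AmpleLib.sec_secHom σ).symm (AmpleLib.sec_secHom τ).symm)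

theorem stalkLin_secHom {N : X.Modules} (σ : Γ(N, ⊤)) (x : X) :
    stalkLin (DCohLib.secHom N σ) x (oneG x) = N.presheaf.germ ⊤ x trivial σ :=
  (stalkLin_germ _ (U := ⊤) x trivial _).trans (congrArg _ (AmpleLib.sec_secHom σ))

theorem toAb_mulS_smul (A : X.Modules) {N : X.Modules} (g : Γ(X, ⊤)) (σ : Γ(N, ⊤)) :
    (QCohLib.toAbF X).map (mulS A (DCohLib.secHom N (g • σ))) =
      (QCohLib.toAbF X).map (mulS A (DCohLib.secHom N σ)) ≫ Coh.smulAb (tmod A N) g := by
  have hx : ∀ (x : X) (z : (tmod A (Coh.structureModule X)).presheaf.stalk x),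
      stalkLin (mulS A (DCohLib.secHom N (g • σ))) x z =
        X.presheaf.germ ⊤ x trivial g • stalkLin (mulS A (DCohLib.secHom N σ)) x z := by
    intro x z
    obtain ⟨z, rfl⟩ := (stalkTensor x A (Coh.structureModule X)).surjective z
    rw [stalkTensor_natural_right, stalkTensor_natural_right, ← map_smul]
    congr 1
    induction z with
    | zero => simp
    | add a b ha hb => rw [map_add, map_add, ha, hb, smul_add]
    | tmul a r =>
      obtain ⟨c, rfl⟩ := (bijective_oneG x).2 r
      rw [LinearMap.lTensor_tmul, LinearMap.lTensor_tmul, map_smul, map_smul, stalkLin_secHom, stalkLin_secHom,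
        germ_smul', ← TensorProduct.tmul_smul, smul_comm]
  refine Sheaf.hom_ext (NatTrans.ext (funext fun U => ?_))
  refine AddCommGrpCat.hom_ext (AddMonoidHom.ext fun m => ?_)
  refine TopCat.Presheaf.section_ext (⟨(tmod A N).presheaf, (tmod A N).isSheaf⟩ : TopCat.Sheaf Ab X) U.unop _ _
    fun x hxU => ?_
  show (tmod A N).presheaf.germ U.unop x hxU ((mulS A (DCohLib.secHom N (g • σ))).app U.unop m) =
    (tmod A N).presheaf.germ U.unop x hxU
      (X.presheaf.map (homOfLE (le_top : U.unop ≤ ⊤)).op g • (mulS A (DCohLib.secHom N σ)).app U.unop m)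
  rw [← stalkLin_germ, hx, stalkLin_germ, germ_smul', TopCat.Presheaf.germ_res_apply]

variable {k : Type u} [Field k] [X.Over (Spec (CommRingCat.of k))]

/-- The global section of a class in degree zero. -/
def secOf (N : X.Modules) : Coh.HH X N 0 ≃+ Γ(N, ⊤) :=
  (CohBase.HHEquiv N 0).trans (CohBase.H0Equiv (⊤ : X.Opens) (Coh.toAb N))

theorem secOf_smul (N : X.Modules) (r : k) (c : Coh.HH X N 0) :
    secOf N (r • c) = (show Γ(X, ⊤) from Coh.toGlobal (X ↘ Spec (CommRingCat.of k)) r) • secOf N c := by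
  show H0Equiv (⊤ : X.Opens) (Coh.toAb N) (HEquiv _ 0 (Sheaf.H.map (Coh.smulAb N _) 0 c)) = _
  rw [HEquiv_map, H0Equiv_hmap, Coh.smulAb_app]
  exact congrArg (fun a : Γ(X, ⊤) => a • secOf N c) (ConcreteCategory.congr_hom (X.presheaf.map_id _) _)

/-- Multiplication of cohomology classes by sections. -/
def mulH (A N : X.Modules) (p : ℕ) :
    Coh.HH X N 0 →ₗ[k] Coh.HH X (tmod A (Coh.structureModule X)) p →ₗ[k] Coh.HH X (tmod A N) p where
  toFun c := hMap (mulS A (DCohLib.secHom N (secOf N c))) p
  map_add' a b := by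
    refine LinearMap.ext fun x => ?_
    show Sheaf.H.map _ p x = Sheaf.H.map _ p x + Sheaf.H.map _ p x
    rw [map_add, secHom_add, mulS, Functor.map_add, Functor.map_add]
    show x.comp (Abelian.Ext.mk₀ (_ + _)) (add_zero p) = _
    rw [Abelian.Ext.mk₀_add, Abelian.Ext.comp_add]
    rfl
  map_smul' r c := by
    refine LinearMap.ext fun x => ?_
    show Sheaf.H.map _ p x = Sheaf.H.map (Coh.smulAb _ (Coh.toGlobal (X ↘ Spec (CommRingCat.of k)) r)) p
      (Sheaf.H.map _ p x)
    rw [← Sheaf.H.map_comp_apply, secOf_smul]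
    exact congrArg (fun e => Sheaf.H.map e p x) (toAb_mulS_smul A _ _)

theorem mulH_apply (A N : X.Modules) (p : ℕ) (c : Coh.HH X N 0) :
    mulH (k := k) A N p c = hMap (mulS A (DCohLib.secHom N (secOf N c))) p := rfl

theorem secHom_secOf_ne_zero (N : X.Modules) {c : Coh.HH X N 0} (hc : c ≠ 0) :
    DCohLib.secHom N (secOf N c) ≠ 0 := fun h => hc ((secOf N).injective (by
  rw [map_zero, ← AmpleLib.sec_secHom (secOf N c), h]
  rfl))

end Groth.Agent.CurveLib
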