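import Groth.Prelude.Def_Curv2
import Groth.Agent.CohBase.Affine
import Groth.Agent.PullbackMod.Hom

/-!
# Modules supported in a closed subset of dimension zero
-/

set_option autoImplicit false
set_option backward.isDefEq.respectTransparency false
set_option linter.style.haveILetI false

universe u

open CategoryTheory CategoryTheory.Limits AlgebraicGeometry TopologicalSpace Opposite
open Groth.Agent.PullbackMod

noncomputable section

namespace Groth.Agent.CurveLib

variable {X : Scheme.{u}} {C : Set X} (hC : IsClosed C) (hd : topologicalKrullDim C ≤ 0)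

include hC hd in
theorem closure_singleton_eq {x : X} (hx : x ∈ C) : closure {x} = {x} := by
  refine Set.Subset.antisymm (fun y hy => ?_) subset_closure
  have hyx : x ⤳ y := specializes_iff_mem_closure.2 hy
  have hyC : y ∈ C := hC.closure_subset_iff.2 (Set.singleton_subset_iff.2 hx) hy
  let P : C → IrreducibleCloseds C := fun z =>
    ⟨closure {z}, isIrreducible_singleton.closure, isClosed_closure⟩
  have hle : P ⟨y, hyC⟩ ≤ P ⟨x, hx⟩ := fun z hz => by
    have : (⟨y, hyC⟩ : C) ∈ closure ({⟨x, hx⟩} : Set C) := by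
      rw [← specializes_iff_mem_closure, subtype_specializes_iff]
      exact hyx
    exact closure_minimal (Set.singleton_subset_iff.2 this) isClosed_closure hz
  have hge := Order.krullDim_nonpos_iff_forall_isMax.1 hd (P ⟨y, hyC⟩) hle
  have hxy : (⟨y, hyC⟩ : C) ⤳ ⟨x, hx⟩ := specializes_iff_mem_closure.2 (hge (subset_closure rfl))
  exact (inseparable_iff_specializes_and.2 ⟨(subtype_specializes_iff _ _).1 hxy, hyx⟩).eq

variable [NoetherianSpace X]

include hC hd in
theorem finite_of_dim_le_zero : C.Finite := by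
  obtain ⟨S, hSf, hSc, hSi, hSU⟩ := NoetherianSpace.exists_finite_set_isClosed_irreducible (s := C) hC
  rw [hSU]
  refine hSf.sUnion fun t ht => ?_
  obtain ⟨ξ, hξ⟩ := QuasiSober.sober (hSi t ht) (hSc t ht)
  rw [← hξ.def, closure_singleton_eq hC hd (hSU ▸ Set.mem_sUnion.2 ⟨t, ht, hξ.mem⟩)]
  exact Set.finite_singleton ξ

variable (M : X.Modules)

include hC hd in
/-- Every germ is the germ of a global section. -/
theorem exists_global_germ' (hM : CohB1.support M ⊆ C) (x : X) (z : M.presheaf.stalk x) :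
    ∃ s : Γ(M, ⊤), M.presheaf.germ ⊤ x trivial s = z ∧
      ∀ y, y ≠ x → M.presheaf.germ ⊤ y trivial s = 0 := by
  by_cases hx : x ∈ C
  swap
  · haveI : Subsingleton (M.presheaf.stalk x) := not_not.1 fun h => hx (hM h)
    exact ⟨0, Subsingleton.elim _ _, fun y _ => map_zero _⟩
  obtain ⟨V₀, hxV₀, t, rfl⟩ := TopCat.Presheaf.exists_germ_eq M.presheaf z
  have hC' : IsClosed (C \ {x}) := by
    rw [← Set.biUnion_of_singleton (C \ {x})]
    refine ((finite_of_dim_le_zero hC hd).subset Set.sdiff_subset).isClosed_biUnion fun y hy => ?_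
    rw [← closure_singleton_eq hC hd hy.1]
    exact isClosed_closure
  have hxc : IsClosed ({x} : Set X) := closure_singleton_eq hC hd hx ▸ isClosed_closure
  let V : X.Opens := V₀ ⊓ ⟨(C \ {x})ᶜ, hC'.isOpen_compl⟩
  let W : X.Opens := ⟨{x}ᶜ, hxc.isOpen_compl⟩
  let U : ULift.{u} Bool → X.Opens := fun b => if b.down then V else W
  let F : TopCat.Sheaf AddCommGrpCat.{u} X := ⟨M.presheaf, M.isSheaf⟩
  have hxV : x ∈ V := ⟨hxV₀, fun h => h.2 rfl⟩
  have hzero : ∀ (O : X.Opens) (s : Γ(M, O)), (∀ y ∈ O, y ∉ C) → s = 0 := fun O s hO =>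
    TopCat.Presheaf.section_ext F O s 0 fun y hy => by
      haveI : Subsingleton (M.presheaf.stalk y) := not_not.1 fun h => hO y hy (hM h)
      exact Subsingleton.elim _ _
  let tV : Γ(M, V) := M.presheaf.map (homOfLE inf_le_left).op t
  let sf : ∀ b, Γ(M, U b) := fun b =>
    match b with
    | ⟨true⟩ => tV
    | ⟨false⟩ => 0
  have hov : ∀ (O : X.Opens), O ≤ V → O ≤ W → ∀ y ∈ O, y ∉ C := fun O hOV hOW y hy hyC =>
    (hOV hy).2 ⟨hyC, fun h => hOW hy h⟩
  have hcomp : TopCat.Presheaf.IsCompatible F.1 U sf := by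
    rintro ⟨_ | _⟩ ⟨_ | _⟩
    · rfl
    · exact (hzero _ _ (hov _ inf_le_right inf_le_left)).trans (hzero _ _ (hov _ inf_le_right inf_le_left)).symm
    · exact (hzero _ _ (hov _ inf_le_left inf_le_right)).trans (hzero _ _ (hov _ inf_le_left inf_le_right)).symm
    · rfl
  obtain ⟨s, hs, -⟩ := F.existsUnique_gluing' U ⊤ (fun b => homOfLE le_top) (fun y _ => Opens.mem_iSup.2 (by
    by_cases hy : y = x
    · exact ⟨⟨true⟩, hy ▸ hxV⟩
    · exact ⟨⟨false⟩, hy⟩)) sf hcomp
  refine ⟨s, ?_, fun y hy => ?_⟩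
  swap
  · have hy' : y ∈ W := hy
    rw [← TopCat.Presheaf.germ_res_apply M.presheaf (homOfLE (le_top : W ≤ ⊤)) y hy']
    exact (congrArg (M.presheaf.germ W y hy') (hs ⟨false⟩)).trans (map_zero _)
  have h1 := hs ⟨true⟩
  rw [← TopCat.Presheaf.germ_res_apply M.presheaf (homOfLE (le_top : V ≤ ⊤)) x hxV]
  refine (congrArg (M.presheaf.germ V x hxV) h1).trans ?_
  exact TopCat.Presheaf.germ_res_apply M.presheaf (homOfLE inf_le_left) x hxV t

include hC hd in
/-- Every germ is the germ of a global section. -/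
theorem exists_global_germ (hM : CohB1.support M ⊆ C) (x : X) (z : M.presheaf.stalk x) :
    ∃ s : Γ(M, ⊤), M.presheaf.germ ⊤ x trivial s = z :=
  (exists_global_germ' hC hd M hM x z).imp fun _ h => h.1

include hC hd in
/-- Without global sections there is nothing. -/
theorem subsingleton_stalk_of_H0 (hM : CohB1.support M ⊆ C) [Subsingleton (Coh.HH X M 0)] (x : X) :
    Subsingleton (M.presheaf.stalk x) := by
  haveI : Subsingleton Γ(M, ⊤) :=
    ((CohBase.HHEquiv M 0).trans (CohBase.H0Equiv (⊤ : X.Opens) (Coh.toAb M))).symm.toEquiv.subsingleton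
  refine subsingleton_of_forall_eq 0 fun z => ?_
  obtain ⟨s, rfl⟩ := exists_global_germ hC hd M hM x z
  rw [Subsingleton.elim s 0, map_zero]

include hC hd in
/-- Such modules are generated by global sections. -/
theorem isGloballyGenerated (hM : CohB1.support M ⊆ C) : Curv2.IsGloballyGenerated M := by
  let sec : Γ(M, ⊤) → SheafOfModules.sections (R := X.ringCatSheaf) M := fun s =>
    PresheafOfModules.sectionsMk (fun U => M.presheaf.map (homOfLE le_top).op s) fun {U V} i => by
      show (M.presheaf.map _ ≫ M.presheaf.map i) s = M.presheaf.map _ s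
      rw [← Functor.map_comp]
      rfl
  let p := (SheafOfModules.freeHomEquiv (R := X.ringCatSheaf) M).symm sec
  refine ⟨Γ(M, ⊤), p, (epi_iff_stalk (M := (SheafOfModules.free _ : X.Modules)) p).2 fun x z => ?_⟩
  obtain ⟨s, rfl⟩ := exists_global_germ hC hd M hM x z
  let P : X.Modules := (SheafOfModules.free (R := X.ringCatSheaf) Γ(M, ⊤) : SheafOfModules X.ringCatSheaf)
  refine ⟨Scheme.Modules.presheaf P |>.germ ⊤ x trivial
    ((SheafOfModules.freeSection (R := X.ringCatSheaf) s).val (op ⊤)), ?_⟩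
  rw [stalkLin_germ]
  refine congrArg (M.presheaf.germ ⊤ x trivial) ?_
  have := (SheafOfModules.freeHomEquiv_apply p s).symm.trans
    (congrFun ((SheafOfModules.freeHomEquiv (R := X.ringCatSheaf) M).apply_symm_apply sec) s)
  refine (congrArg (fun σ : SheafOfModules.sections (R := X.ringCatSheaf) M => σ.val (op ⊤)) this).trans ?_
  exact ConcreteCategory.congr_hom (M.presheaf.map_id _) s

end Groth.Agent.CurveLib
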