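import Groth.Agent.CurveLib.Euler
import Groth.Agent.CurveLib.Inv
import Groth.Agent.CurveLib.Finite
import Groth.Agent.PullbackMod.SuppClosed

/-!
# Degrees of invertible modules on proper curves
-/

set_option autoImplicit false
set_option backward.isDefEq.respectTransparency false
set_option linter.style.haveILetI false

universe u

open CategoryTheory CategoryTheory.Limits AlgebraicGeometry TopologicalSpace Opposite

noncomputable section

namespace Groth.Agent.CurveLib

variable {k : Type u} [Field k] {X : Scheme.{u}} [X.Over (Spec (CommRingCat.of k))]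
  [IsProper (X ↘ Spec (CommRingCat.of k))]

/-- A coherent module supported in dimension zero has Euler characteristic `dim H⁰`. -/
theorem euler_of_dim_le_zero {Q : X.Modules} {C : Set X} (hC : IsClosed C) (hQ : CohB1.support Q ⊆ C)
    (hd : topologicalKrullDim C ≤ 0) :
    Curv2.euler k X Q = Module.finrank k (Coh.HH X Q 0) := by
  haveI := EulerIneqLib.isNoetherian_proper (X := X) k
  rw [euler_eq_sum (K := k) Q 1 fun p hp => subsingleton_HH_of_support Q hC hQ (d := 0) hd hp]
  simp

variable [IsIntegral X] (hdim : topologicalKrullDim X ≤ 1) {N L : X.Modules}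

include hdim in
/-- Degree and cokernel of a nonzero map of invertible modules. -/
theorem deg_eq_add_coker (hN : PicF.IsInvertible N) (hL : PicF.IsInvertible L) {φ : N ⟶ L} (hφ : φ ≠ 0) :
    Curv2.deg k X L 1 = Curv2.deg k X N 1 + Module.finrank k (Coh.HH X (cokernel φ) 0) ∧
      IsClosed (CohB1.support (cokernel φ)) ∧ topologicalKrullDim (CohB1.support (cokernel φ)) ≤ 0 ∧
      Coh.IsCoh (cokernel φ) ∧ Mono φ := by
  haveI := EulerIneqLib.isNoetherian_proper (X := X) k
  haveI := mono_of_ne_zero hN hL hφ
  have hQ := (QCohLib.isCoh_kernel_cokernel φ (isCoh_of_isInvertible hN) (isCoh_of_isInvertible hL)).2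
  have hC := PullbackMod.isClosed_support_of_isFT hQ.2
  have hd := dim_le_zero_of_notMem hdim hC (genericPoint_spec X) (genericPoint_notMem_support hN hL hφ)
  refine ⟨?_, hC, hd, hQ, inferInstance⟩
  have h := euler_shortExact (K := k) (DevLib.cokerSeq_shortExact φ) (isCoh_of_isInvertible hN)
    (isCoh_of_isInvertible hL) hQ
  change Curv2.euler k X L = Curv2.euler k X N + Curv2.euler k X (cokernel φ) at h
  rw [euler_of_dim_le_zero hC subset_rfl hd] at h
  unfold Curv2.deg
  omega

include hdim in
/-- A nonzero map of invertible modules raises the degree, strictly unless it is an isomorphism. -/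
theorem deg_le_of_ne_zero (hN : PicF.IsInvertible N) (hL : PicF.IsInvertible L) {φ : N ⟶ L} (hφ : φ ≠ 0) :
    Curv2.deg k X N 1 ≤ Curv2.deg k X L 1 ∧ (Curv2.deg k X N 1 = Curv2.deg k X L 1 → IsIso φ) := by
  haveI := EulerIneqLib.isNoetherian_proper (X := X) k
  obtain ⟨he, hC, hd, hQ, hm⟩ := deg_eq_add_coker (k := k) hdim hN hL hφ
  refine ⟨by omega, fun heq => ?_⟩
  haveI := EulerIneqLib.finite_HH (k := k) hQ 0
  haveI : Subsingleton (Coh.HH X (cokernel φ) 0) :=
    (Module.finrank_eq_zero_iff_of_free k (Coh.HH X (cokernel φ) 0)).1 (by omega)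
  refine (PullbackMod.isIso_iff_stalk φ).2 fun x => ⟨(PullbackMod.mono_iff_stalk φ).1 hm x, fun z => ?_⟩
  haveI := subsingleton_stalk_of_H0 hC hd (cokernel φ) subset_rfl x
  exact (DevLib.coker_exact φ x z).1 (Subsingleton.elim _ _)

theorem deg_structureModule : Curv2.deg k X (Coh.structureModule X) 1 = 0 := by
  simp [Curv2.deg]

include hdim in
/-- An invertible module of degree at most zero with a nonzero section is trivial. -/
theorem nonempty_iso_structureModule (hL : PicF.IsInvertible L) (s : Coh.structureModule X ⟶ L) (hs : s ≠ 0)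
    (hdeg : Curv2.deg k X L 1 ≤ 0) : Nonempty (L ≅ Coh.structureModule X) := by
  obtain ⟨h1, h2⟩ := deg_le_of_ne_zero (k := k) hdim ParaFLib.isInvertible_structureModule hL hs
  rw [deg_structureModule] at h1 h2
  haveI := h2 (le_antisymm h1 hdeg)
  exact ⟨(asIso s).symm⟩

end Groth.Agent.CurveLib
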