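import Groth.Agent.CurveLib.StalkDim
import Groth.Agent.CurveLib.Deg
import Groth.Agent.DCohLib.StalkTensor
import Groth.Agent.DCohLib.TensorPerf
import Groth.Agent.DCohLib.PerfLocFree
import Groth.Agent.BCLib.TensorFT
import Groth.Agent.PullbackMod.LimFree

/-!
# Euler characteristic of a tensor product with a locally free module
-/

set_option autoImplicit false
set_option backward.isDefEq.respectTransparency false
set_option linter.style.haveILetI false

universe u

open CategoryTheory CategoryTheory.Limits AlgebraicGeometry TopologicalSpace Opposite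
open Groth.Agent.PullbackMod Groth.Agent.DCohLib
open scoped TensorProduct

noncomputable section

namespace Groth.Agent.CurveLib

variable {X : Scheme.{u}}

theorem isCoh_tmod {M N : X.Modules} (hM : Coh.IsCoh M) (hN : Coh.IsCoh N) : Coh.IsCoh (tmod M N) := by
  haveI := hM.1
  haveI := hN.1
  exact ⟨BCLib.isQCoh_tmod M N, BCLib.isFT_tensorMod M N hM.2 hN.2⟩

theorem freeAt_of_isFinLocFreeOfRank {n : ℕ} {E : X.Modules} (hE : FlatMod.IsFinLocFreeOfRank n E) (x : X) :
    FreeAt n E x := by
  obtain ⟨U, hx, ⟨e⟩⟩ := hE x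
  haveI := (isQCoh_and_isFP_of_isFinLocFree E fun y => by
    obtain ⟨V, hy, he⟩ := hE y
    exact ⟨V, n, hy, he⟩).1
  exact freeAt_of_restrict_iso E e hx

/-- The map `f ⊗ E`. -/
abbrev tmap {I L : X.Modules} (f : I ⟶ L) (E : X.Modules) : tmod I E ⟶ tmod L E :=
  (((DCoh.tensorBi (X := X)).map f).app E)

variable {I L E : X.Modules} {n : ℕ} (f : I ⟶ L) [Mono f] (hE : ∀ x, FreeAt n E x)

include hE in
theorem mono_tmap : Mono (tmap f E) := by
  refine (mono_iff_stalk _).2 fun x a b hab => ?_
  obtain ⟨a, rfl⟩ := (stalkTensor x I E).surjective a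
  obtain ⟨b, rfl⟩ := (stalkTensor x I E).surjective b
  rw [stalkTensor_natural_left, stalkTensor_natural_left] at hab
  obtain ⟨e⟩ := hE x
  haveI : Module.Flat (X.presheaf.stalk x) (E.presheaf.stalk x) := Module.Flat.of_linearEquiv e
  exact congrArg _ (Module.Flat.rTensor_preserves_injective_linearMap (stalkLin f x)
    ((mono_iff_stalk f).1 inferInstance x) ((stalkTensor x L E).injective hab))

include hE in
theorem nonempty_stalk_coker_tmap (x : X) [Mono (tmap f E)] :
    Nonempty ((cokernel (tmap f E)).presheaf.stalk x ≃ₗ[X.presheaf.stalk x]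
      (Fin n → (cokernel f).presheaf.stalk x)) := by
  obtain ⟨e⟩ := hE x
  let g' : L.presheaf.stalk x ⊗[X.presheaf.stalk x] E.presheaf.stalk x →ₗ[X.presheaf.stalk x]
      (cokernel (tmap f E)).presheaf.stalk x :=
    (stalkLin (cokernel.π (tmap f E)) x).comp (stalkTensor x L E).toLinearMap
  let g : L.presheaf.stalk x ⊗[X.presheaf.stalk x] E.presheaf.stalk x →ₗ[X.presheaf.stalk x]
      (cokernel f).presheaf.stalk x ⊗[X.presheaf.stalk x] E.presheaf.stalk x :=
    (stalkLin (cokernel.π f) x).rTensor _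
  have hg' : Function.Surjective g' := (DevLib.coker_surjective (tmap f E) x).comp (stalkTensor x L E).surjective
  have hg : Function.Surjective g := LinearMap.rTensor_surjective _ (DevLib.coker_surjective f x)
  have hexg : Function.Exact ((stalkLin f x).rTensor (E.presheaf.stalk x)) g :=
    rTensor_exact _ (DevLib.coker_exact f x) (DevLib.coker_surjective f x)
  have hker : LinearMap.ker g' = LinearMap.ker g := by
    ext z
    rw [LinearMap.mem_ker, LinearMap.mem_ker, hexg z]
    refine ⟨fun h => ?_, ?_⟩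
    · obtain ⟨w, hw⟩ := (DevLib.coker_exact (tmap f E) x (stalkTensor x L E z)).1 h
      obtain ⟨w, rfl⟩ := (stalkTensor x I E).surjective w
      rw [stalkTensor_natural_left] at hw
      exact ⟨w, (stalkTensor x L E).injective hw⟩
    · rintro ⟨w, rfl⟩
      exact (DevLib.coker_exact (tmap f E) x _).2 ⟨stalkTensor x I E w, stalkTensor_natural_left x f w⟩
  exact ⟨(g'.quotKerEquivOfSurjective hg').symm ≪≫ₗ Submodule.quotEquivOfEq _ _ hker ≪≫ₗ
    g.quotKerEquivOfSurjective hg ≪≫ₗ LinearEquiv.lTensor _ e ≪≫ₗ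
    TensorProduct.piScalarRight (X.presheaf.stalk x) (X.presheaf.stalk x) _ (Fin n)⟩

variable {k : Type u} [Field k] [X.Over (Spec (CommRingCat.of k))] [IsProper (X ↘ Spec (CommRingCat.of k))]

include hE in
/-- `χ(L ⊗ E) − χ(I ⊗ E) = n (χ L − χ I)` when `L/I` is supported in dimension zero. -/
theorem euler_tmod_sub (hI : Coh.IsCoh I) (hL : Coh.IsCoh L) (hEc : Coh.IsCoh E)
    (hd : topologicalKrullDim (CohB1.support (cokernel f)) ≤ 0) :
    Curv2.euler k X (tmod L E) - Curv2.euler k X (tmod I E) =
      n * (Curv2.euler k X L - Curv2.euler k X I) := by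
  haveI := EulerIneqLib.isNoetherian_proper (X := X) k
  haveI := mono_tmap f hE
  have hQ := (QCohLib.isCoh_kernel_cokernel f hI hL).2
  have hQ' := (QCohLib.isCoh_kernel_cokernel (tmap f E) (isCoh_tmod hI hEc) (isCoh_tmod hL hEc)).2
  have h1 := euler_shortExact (K := k) (DevLib.cokerSeq_shortExact f) hI hL hQ
  have h2 := euler_shortExact (K := k) (DevLib.cokerSeq_shortExact (tmap f E)) (isCoh_tmod hI hEc)
    (isCoh_tmod hL hEc) hQ'
  change Curv2.euler k X L = Curv2.euler k X I + Curv2.euler k X (cokernel f) at h1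
  change Curv2.euler k X (tmod L E) = Curv2.euler k X (tmod I E) + Curv2.euler k X (cokernel (tmap f E)) at h2
  rw [h1, h2, euler_eq_mul (k := k) hQ hQ' (DevLib.isClosed_support hQ) subset_rfl hd n
    fun x => nonempty_stalk_coker_tmap f hE x]
  ring

end Groth.Agent.CurveLib
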