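import Groth.Agent.CurveLib.SmulPow
import Groth.Agent.RegHomLib.Basic
import Groth.Agent.RegLocal.Basic
import Groth.Agent.FinCondEasy.Components
import Mathlib.AlgebraicGeometry.Morphisms.Smooth

/-!
# Global functions and integrality of smooth connected curves
-/

set_option autoImplicit false
set_option backward.isDefEq.respectTransparency false
set_option linter.style.haveILetI false

universe u

open CategoryTheory CategoryTheory.Limits AlgebraicGeometry TopologicalSpace Opposite

noncomputable section

namespace Groth.Agent.CurveLib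

variable {k : Type u} [Field k] {X : Scheme.{u}} [X.Over (Spec (CommRingCat.of k))]
  [IsProper (X ↘ Spec (CommRingCat.of k))]

/-- `H⁰(X, O) = k` on a proper integral scheme over an algebraically closed field. -/
theorem finrank_H0_structure [IsAlgClosed k] [IsIntegral X] :
    Module.finrank k (Coh.HH X (Coh.structureModule X) 0) = 1 := by
  haveI := EulerIneqLib.isNoetherian_proper (X := X) k
  haveI := EulerIneqLib.finite_HH (k := k) (DevLib.isCoh_structureModule X) 0
  let φ : k →+* Γ(X, ⊤) := Coh.toGlobal (X ↘ Spec (CommRingCat.of k))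
  letI := φ.toAlgebra
  let e : Coh.HH X (Coh.structureModule X) 0 ≃ₗ[k] Γ(X, ⊤) :=
    { (secOf (Coh.structureModule X)) with map_smul' := fun r c => secOf_smul (k := k) _ r c }
  haveI : Module.Finite k Γ(X, ⊤) := Module.Finite.equiv e
  rw [e.finrank_eq]
  have hs := IsAlgClosed.algebraMap_bijective_of_isIntegral (k := k) (K := Γ(X, ⊤))
  exact (LinearEquiv.ofBijective (Algebra.linearMap k Γ(X, ⊤)) hs).finrank_eq.symm.trans (Module.finrank_self k)

omit [IsProper (X ↘ Spec (CommRingCat.of k))] in
/-- Local rings of a smooth scheme over a field are regular. -/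
theorem isRegularLocalRing_stalk_of_smooth [Smooth (X ↘ Spec (CommRingCat.of k))] (x : X) :
    IsRegularLocalRing (X.presheaf.stalk x) := by
  obtain ⟨_, ⟨U, hU, rfl⟩, hxU, -⟩ :=
    X.isBasis_affineOpens.exists_subset_of_mem_open (Set.mem_univ x) isOpen_univ
  have h := HasRingHomProperty.appLE (P := @Smooth) (X ↘ Spec (CommRingCat.of k)) inferInstance
    ⟨⊤, isAffineOpen_top _⟩ ⟨U, hU⟩ le_top
  let ψ : k →+* Γ(X, U) :=
    ((X ↘ Spec (CommRingCat.of k)).appLE ⊤ U le_top).hom.comp (Scheme.ΓSpecIso (CommRingCat.of k)).inv.hom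
  have hψ : ψ.Smooth := RingHom.Smooth.respectsIso.2 _
    (Scheme.ΓSpecIso (CommRingCat.of k)).symm.commRingCatIsoToRingEquiv h
  algebraize [ψ]
  haveI := RegHomLib.isRegularRing_of_smooth k Γ(X, U)
  letI := TopCat.Presheaf.algebra_section_stalk X.presheaf (⟨x, hxU⟩ : U)
  haveI := hU.isLocalization_stalk ⟨x, hxU⟩
  haveI := @IsRegularRing.isRegularLocalRing_localization _ _ _ (hU.primeIdealOf ⟨x, hxU⟩).asIdeal
    (hU.primeIdealOf ⟨x, hxU⟩).isPrime
  exact IsRegularLocalRing.of_ringEquiv (IsLocalization.algEquiv (hU.primeIdealOf ⟨x, hxU⟩).asIdeal.primeCompl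
    (Localization.AtPrime (hU.primeIdealOf ⟨x, hxU⟩).asIdeal) (X.presheaf.stalk x)).toRingEquiv

/-- A connected smooth proper scheme over a field is integral. -/
theorem isIntegral_of_smooth (k : Type u) [Field k] [X.Over (Spec (CommRingCat.of k))]
    [IsProper (X ↘ Spec (CommRingCat.of k))] [Smooth (X ↘ Spec (CommRingCat.of k))] [ConnectedSpace X] :
    IsIntegral X := by
  haveI := EulerIneqLib.isNoetherian_proper (X := X) k
  exact (FinCondEasy.isIntegral_iff' X).2 ⟨inferInstance, fun x =>
    haveI := isRegularLocalRing_stalk_of_smooth (k := k) x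
    RegLocal.isDomain _⟩

end Groth.Agent.CurveLib
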