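import Groth.Agent.CurveLib.Frac

/-!
# Degrees of tensor products
-/

set_option autoImplicit false
set_option backward.isDefEq.respectTransparency false
set_option linter.style.haveILetI false

universe u

open CategoryTheory CategoryTheory.Limits AlgebraicGeometry TopologicalSpace Opposite
open Groth.Agent.PullbackMod Groth.Agent.DCohLib

noncomputable section

namespace Groth.Agent.CurveLib

variable {X : Scheme.{u}}

/-- Commutativity of the tensor product. -/
def tmodComm (M N : X.Modules) : tmod M N ≅ tmod N M := ModTensor.tensComm X.sheaf M N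

/-- The structure sheaf is a unit. -/
def tmodUnit (M : X.Modules) : tmod (Coh.structureModule X) M ≅ M :=
  tmodComm _ M ≪≫ tensorStructureIso M

variable {k : Type u} [Field k] [X.Over (Spec (CommRingCat.of k))] [IsProper (X ↘ Spec (CommRingCat.of k))]
  [IsIntegral X] (hdim : topologicalKrullDim X ≤ 1)

include hdim in
/-- `χ(E ⊗ L) = χ(E) + n deg L`. -/
theorem euler_tensor_invertible {E L : X.Modules} {n : ℕ} (hE : FlatMod.IsFinLocFreeOfRank n E)
    (hL : PicF.IsInvertible L) :
    Curv2.euler k X (tmod E L) = Curv2.euler k X E + n * Curv2.deg k X L 1 := by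
  rw [euler_iso (K := k) (tmodComm E L), euler_tmod_invertible (k := k) hdim hL hE, euler_iso (K := k) (tmodUnit E)]

include hdim in
/-- `deg(E ⊗ L) = deg E + n deg L`. -/
theorem deg_tensor_invertible {E L : X.Modules} {n : ℕ} (hE : FlatMod.IsFinLocFreeOfRank n E)
    (hL : PicF.IsInvertible L) :
    Curv2.deg k X (tmod E L) n = Curv2.deg k X E n + n * Curv2.deg k X L 1 := by
  unfold Curv2.deg
  rw [euler_tensor_invertible (k := k) hdim hE hL]
  unfold Curv2.deg
  ring

omit [IsIntegral X] in
theorem isFinLocFreeOfRank_one {L : X.Modules} (hL : PicF.IsInvertible L) : FlatMod.IsFinLocFreeOfRank 1 L :=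
  fun x => by
    obtain ⟨U, hx, ⟨e⟩⟩ := hL x
    exact ⟨U, hx, ⟨e ≪≫ (coproductUniqueIso fun _ : Fin 1 => Coh.structureModule (↑U : Scheme.{u})).symm⟩⟩

include hdim in
/-- `deg(L ⊗ M) = deg L + deg M`. -/
theorem deg_tensor_add {L M : X.Modules} (hL : PicF.IsInvertible L) (hM : PicF.IsInvertible M) :
    Curv2.deg k X (CohB1.tensorMod L M) 1 = Curv2.deg k X L 1 + Curv2.deg k X M 1 := by
  have h := deg_tensor_invertible (k := k) hdim (isFinLocFreeOfRank_one hL) hM
  refine Eq.trans h ?_
  simp

omit [IsIntegral X] in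
/-- Degree is invariant under isomorphism. -/
theorem deg_iso {M N : X.Modules} (e : M ≅ N) (n : ℕ) : Curv2.deg k X M n = Curv2.deg k X N n := by
  unfold Curv2.deg
  rw [euler_iso (K := k) e]

omit [IsIntegral X] in
/-- Degree in short exact sequences. -/
theorem deg_shortExact {S : ShortComplex X.Modules} (hS : S.ShortExact) {n₁ n₂ n₃ : ℕ} (h₁ : Coh.IsCoh S.X₁)
    (h₂ : Coh.IsCoh S.X₂) (h₃ : Coh.IsCoh S.X₃) (hn : n₂ = n₁ + n₃) :
    Curv2.deg k X S.X₂ n₂ = Curv2.deg k X S.X₁ n₁ + Curv2.deg k X S.X₃ n₃ := by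
  unfold Curv2.deg
  rw [euler_shortExact hS h₁ h₂ h₃, hn]
  push_cast
  ring

omit [IsIntegral X] in
/-- `dim H⁰ - dim H¹ = deg + χ(O)` in dimension one. -/
theorem euler_eq_sub {M : X.Modules} (hdim : topologicalKrullDim X ≤ 1) :
    Curv2.euler k X M = (Module.finrank k (Coh.HH X M 0) : ℤ) - Module.finrank k (Coh.HH X M 1) := by
  haveI := EulerIneqLib.isNoetherian_proper (X := X) k
  rw [euler_eq_sum (K := k) M 2 fun p hp => subsingleton_HH_of_dim M (d := 1) hdim hp]
  simp [Finset.sum_range_succ]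
  ring

end Groth.Agent.CurveLib
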