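import Groth.Agent.CurveLib.DegTensor
import Groth.Agent.DCohLib.Restrict

/-!
# Sections of invertible modules on proper curves
-/

set_option autoImplicit false
set_option backward.isDefEq.respectTransparency false
set_option linter.style.haveILetI false

universe u

open CategoryTheory CategoryTheory.Limits AlgebraicGeometry TopologicalSpace Opposite
open Groth.Agent.PullbackMod

noncomputable section

namespace Groth.Agent.CurveLib

variable {X : Scheme.{u}}

/-- A nonzero class in degree zero gives a nonzero map out of the structure sheaf. -/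
theorem exists_hom_ne_zero (M : X.Modules) [Nontrivial (Coh.HH X M 0)] :
    ∃ s : Coh.structureModule X ⟶ M, s ≠ 0 := by
  let e₀ : Coh.HH X M 0 ≃+ Γ(M, ⊤) := (CohBase.HHEquiv M 0).trans (CohBase.H0Equiv (⊤ : X.Opens) (Coh.toAb M))
  obtain ⟨c, hc⟩ := exists_ne (0 : Coh.HH X M 0)
  refine ⟨DCohLib.secHom M (e₀ c), fun h => hc (e₀.injective ?_)⟩
  have h1 := DCohLib.secHom_app_one M (e₀ c) ⊤
  rw [h, Scheme.Modules.Hom.zero_app] at h1
  rw [map_zero]
  exact ((ConcreteCategory.congr_hom (M.presheaf.map_id _) _).symm.trans h1.symm)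

variable {k : Type u} [Field k] [X.Over (Spec (CommRingCat.of k))] [IsProper (X ↘ Spec (CommRingCat.of k))]
  [IsIntegral X] (hdim : topologicalKrullDim X ≤ 1) {L : X.Modules}

omit [IsIntegral X] in
include hdim in
/-- Positive Euler characteristic gives sections. -/
theorem exists_hom_of_euler_pos {M : X.Modules} (h : 0 < Curv2.euler k X M) :
    ∃ s : Coh.structureModule X ⟶ M, s ≠ 0 := by
  rw [euler_eq_sub (k := k) hdim] at h
  haveI : Nontrivial (Coh.HH X M 0) := Module.nontrivial_of_finrank_pos (R := k) (by omega)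
  exact exists_hom_ne_zero M

/-- `H¹(L) = 0` if `L` has a section and `H¹(O) = 0`. -/
theorem subsingleton_H1_of_section' (k : Type u) [Field k] [X.Over (Spec (CommRingCat.of k))]
    [IsProper (X ↘ Spec (CommRingCat.of k))] (hdim : topologicalKrullDim X ≤ 1) (hL : PicF.IsInvertible L) {s : Coh.structureModule X ⟶ L} (hs : s ≠ 0)
    [Subsingleton (Coh.HH X (Coh.structureModule X) 1)] : Subsingleton (Coh.HH X L 1) := by
  haveI := EulerIneqLib.isNoetherian_proper (X := X) k
  obtain ⟨-, hC, hd, -, hm⟩ := deg_eq_add_coker (k := k) hdim ParaFLib.isInvertible_structureModule hL hs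
  haveI := hm
  have h1 : Subsingleton (Coh.HH X (DevLib.cokerSeq s).X₃ 1) :=
    subsingleton_HH_of_support (cokernel s) hC subset_rfl (d := 0) hd one_pos
  haveI := h1
  haveI : Subsingleton (Coh.HH X (DevLib.cokerSeq s).X₁ 1) := ‹Subsingleton (Coh.HH X (Coh.structureModule X) 1)›
  exact subsingleton_mid (DevLib.cokerSeq_shortExact s) 1

include hdim in
/-- On a curve of genus zero, `χ(L) = deg L + 1`. -/
theorem euler_genus_zero (h0 : Module.finrank k (Coh.HH X (Coh.structureModule X) 0) = 1)
    (hg : Curv2.genus k X = 0) : Curv2.euler k X L = Curv2.deg k X L 1 + 1 := by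
  have h := euler_eq_sub (k := k) (M := Coh.structureModule X) hdim
  rw [h0, show Module.finrank k (Coh.HH X (Coh.structureModule X) 1) = 0 from hg] at h
  unfold Curv2.deg
  rw [h]
  simp

include hdim in
theorem subsingleton_H1_structure (hg : Curv2.genus k X = 0) :
    Subsingleton (Coh.HH X (Coh.structureModule X) 1) := by
  haveI := EulerIneqLib.isNoetherian_proper (X := X) k
  haveI := EulerIneqLib.finite_HH (k := k) (isCoh_of_isInvertible (X := X) ParaFLib.isInvertible_structureModule) 1
  exact (Module.finrank_eq_zero_iff_of_free k _).1 hg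

include hdim in
/-- Riemann–Roch on a curve of genus zero. -/
theorem genus_zero_sections (h0 : Module.finrank k (Coh.HH X (Coh.structureModule X) 0) = 1)
    (hg : Curv2.genus k X = 0) (hL : PicF.IsInvertible L) {d : ℕ} (hdeg : Curv2.deg k X L 1 = d) :
    Module.finrank k (Coh.HH X L 0) = d + 1 ∧ Subsingleton (Coh.HH X L 1) := by
  haveI := subsingleton_H1_structure (k := k) hdim hg
  have he := euler_genus_zero (L := L) hdim h0 hg
  obtain ⟨s, hs⟩ := exists_hom_of_euler_pos (k := k) hdim (M := L) (by omega)
  haveI h1 := subsingleton_H1_of_section' k hdim hL hs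
  refine ⟨?_, h1⟩
  rw [euler_eq_sub (k := k) hdim, Module.finrank_zero_of_subsingleton (R := k) (M := Coh.HH X L 1)] at he
  omega

end Groth.Agent.CurveLib
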