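import Groth.Agent.CurveLib.CurveVanish
import Groth.Agent.AmpleLib.Tensor

/-!
# A series of degree `d` and dimension `d` forces genus zero
-/

set_option autoImplicit false
set_option backward.isDefEq.respectTransparency false
set_option linter.style.haveILetI false

universe u

open CategoryTheory CategoryTheory.Limits AlgebraicGeometry TopologicalSpace Opposite
open Groth.Agent.PullbackMod Groth.Agent.DCohLib Groth.Agent.CohBase Groth.Agent.ParaFLib

noncomputable section

namespace Groth.Agent.CurveLib

variable {X : Scheme.{u}}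

theorem bijective_stalkLin_of_mem_genLocus {N : X.Modules} (hN : PicF.IsInvertible N)
    {u : Coh.structureModule X ⟶ N} {x : X} (hx : x ∈ CohB1.genLocus N u) : Function.Bijective (stalkLin u x) := by
  refine bijective_stalkLin_of_unit u x ((AmpleLib.mem_genLocus_iff hN).1 hx) (a := 1) ?_ isUnit_one
  rw [one_smul, ← secHom_sec' u, stalkLin_secHom, secHom_sec']
where
  secHom_sec' {N : X.Modules} (u : Coh.structureModule X ⟶ N) : DCohLib.secHom N (AmpleLib.sec u) = u :=
    AmpleLib.secHom_sec u

variable {k : Type u} [Field k] [X.Over (Spec (CommRingCat.of k))] [IsProper (X ↘ Spec (CommRingCat.of k))]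

omit [IsProper (X ↘ Spec (CommRingCat.of k))] in
theorem secOf_hMap {M N : X.Modules} (f : M ⟶ N) (c : Coh.HH X M 0) :
    secOf N (hMap (k := k) f 0 c) = f.app ⊤ (secOf M c) := by
  show H0Equiv (⊤ : X.Opens) (Coh.toAb N) (HEquiv _ 0 (Sheaf.H.map _ 0 c)) = _
  rw [HEquiv_map, H0Equiv_hmap]
  rfl

variable [IsIntegral X]

/-- The Clifford-type bound and its equality case. -/
theorem h0_le_deg_add_one (hdim : topologicalKrullDim X ≤ 1)
    (h0 : Module.finrank k (Coh.HH X (Coh.structureModule X) 0) = 1) {L : X.Modules} (hL : PicF.IsInvertible L)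
    [Nontrivial (Coh.HH X L 0)] :
    (Module.finrank k (Coh.HH X L 0) : ℤ) ≤ Curv2.deg k X L 1 + 1 ∧
      ((Module.finrank k (Coh.HH X L 0) : ℤ) = Curv2.deg k X L 1 + 1 → 0 < Curv2.deg k X L 1 →
        Curv2.genus k X = 0) := by
  haveI := EulerIneqLib.isNoetherian_proper (X := X) k
  obtain ⟨t, ht⟩ := exists_hom_ne_zero L
  obtain ⟨hdeg, hC, hd, hQ, hm⟩ := deg_eq_add_coker (k := k) hdim isInvertible_structureModule hL ht
  rw [deg_structureModule, zero_add] at hdeg
  haveI := hm
  let S := DevLib.cokerSeq t
  have hS : S.ShortExact := DevLib.cokerSeq_shortExact t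
  let π : L ⟶ cokernel t := cokernel.π t
  haveI := EulerIneqLib.finite_HH (k := k) (isCoh_of_isInvertible hL) 0
  haveI := EulerIneqLib.finite_HH (k := k) hQ 0
  have hrn := LinearMap.finrank_range_add_finrank_ker (hMap (k := k) π 0)
  have hker : Module.finrank k (LinearMap.ker (hMap (k := k) π 0)) = 1 := by
    rw [show LinearMap.ker (hMap (k := k) π 0) = LinearMap.range (hMap (k := k) t 0) from
      (range_hMap_f (k := k) hS 0).symm]
    exact (LinearMap.finrank_range_of_inj (hMap_f_zero_injective (k := k) hS)).trans h0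
  have hle := Submodule.finrank_le (LinearMap.range (hMap (k := k) π 0))
  refine ⟨by omega, fun heq hpos => ?_⟩
  have hsurj : Function.Surjective (hMap (k := k) π 0) :=
    LinearMap.range_eq_top.1 (Submodule.eq_top_of_finrank_eq (by omega))
  -- a section generating at the zeros of `t`
  let C := CohB1.support (cokernel t)
  haveI : Fintype C := (finite_of_dim_le_zero hC hd).fintype
  choose W e heW he using fun x : C => exists_gen_nhd hL x.1
  have key : ∀ x : C, ∃ σ : Γ(cokernel t, ⊤),
      (cokernel t).presheaf.germ ⊤ x.1 trivial σ = stalkLin π x.1 (L.presheaf.germ (W x) x.1 (heW x) (e x)) ∧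
      ∀ y, y ≠ x.1 → (cokernel t).presheaf.germ ⊤ y trivial σ = 0 := fun x =>
    exists_global_germ' hC hd (cokernel t) subset_rfl x.1 _
  choose σ hσ hσ' using key
  obtain ⟨c, hc⟩ := hsurj ((secOf (cokernel t)).symm (∑ x, σ x))
  let s := DCohLib.secHom L (secOf L c)
  have hgen : ∀ x : C, x.1 ∈ CohB1.genLocus L s := fun x => by
    have hb := (he x).bijective_germ x.1 (heW x)
    obtain ⟨a, ha⟩ := hb.2 (L.presheaf.germ ⊤ x.1 trivial (secOf L c))
    change a • _ = _ at ha
    rw [AmpleLib.mem_genLocus_iff hL, AmpleLib.sec_secHom, ← ha]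
    refine (AmpleLib.bijective_smul_iff hb a).2 (by_contra fun hu => ?_)
    have h1 : stalkLin π x.1 (L.presheaf.germ ⊤ x.1 trivial (secOf L c)) =
        stalkLin π x.1 (L.presheaf.germ (W x) x.1 (heW x) (e x)) := by
      rw [stalkLin_germ, ← secOf_hMap (k := k), hc, AddEquiv.apply_symm_apply, map_sum,
        Finset.sum_eq_single x (fun y _ hyx => hσ' y x.1 fun h => hyx (Subtype.ext h.symm))
          (fun h => absurd (Finset.mem_univ x) h), hσ]
    rw [← ha, map_smul] at h1
    have h2 : (1 - a) • stalkLin π x.1 (L.presheaf.germ (W x) x.1 (heW x) (e x)) = 0 := by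
      rw [sub_smul, one_smul, h1, sub_self]
    rw [(IsLocalRing.isUnit_one_sub_self_of_mem_nonunits a hu).smul_eq_zero] at h2
    refine x.2 (subsingleton_of_forall_eq 0 fun q => ?_)
    obtain ⟨z, rfl⟩ := DevLib.coker_surjective t x.1 q
    obtain ⟨b, rfl⟩ := hb.2 z
    show stalkLin π x.1 (b • _) = 0
    rw [map_smul, h2, smul_zero]
  -- multiplication by `t` is injective on `H¹`
  have step : ∀ n, Module.finrank k (Coh.HH X (CohB1.tensorPow L (n + 1)) 1) =
      Module.finrank k (Coh.HH X (CohB1.tensorPow L n) 1) := by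
    intro n
    let P := CohB1.tensorPow L n
    have hP := AmpleLib.isInvertible_tensorPow hL n
    let u := AmpleLib.powS s n
    have hu : ∀ x ∈ C, x ∈ CohB1.genLocus P u := fun x hx => by
      cases n with
      | zero => exact AmpleLib.genLocus_id.ge trivial
      | succ m => exact (AmpleLib.genLocus_powS hL s m).ge (hgen ⟨x, hx⟩)
    have hT := shortExact_tensR hS (freeAt_one_of_isInvertible hP)
    haveI : IsIso (mulS (cokernel t) u) := (isIso_iff_stalk _).2 fun x => by
      by_cases hx : x ∈ C
      · have hcomp : (stalkLin (mulS (cokernel t) u) x) ∘ (stalkTensor x (cokernel t) (Coh.structureModule X)) =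
            (stalkTensor x (cokernel t) P) ∘ (LinearMap.lTensor _ (stalkLin u x)) :=
          funext fun z => stalkTensor_natural_right x u z
        refine (Function.Bijective.of_comp_iff _ (stalkTensor x (cokernel t) (Coh.structureModule X)).bijective).1 ?_
        rw [hcomp]
        exact (stalkTensor x (cokernel t) P).bijective.comp
          (LinearEquiv.lTensor _ (LinearEquiv.ofBijective (stalkLin u x)
            (bijective_stalkLin_of_mem_genLocus hP (hu x hx)))).bijective
      · haveI : Subsingleton ((cokernel t).presheaf.stalk x) := not_not.1 hx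
        haveI : ∀ N : X.Modules, Subsingleton ((tmod (cokernel t) N).presheaf.stalk x) := fun N =>
          (stalkTensor x (cokernel t) N).symm.toEquiv.subsingleton
        exact ⟨fun a b _ => Subsingleton.elim _ _, fun b => ⟨0, Subsingleton.elim _ _⟩⟩
    let η : tensR (Coh.structureModule X) ≅ 𝟭 X.Modules := ModTensor.tensorUnitRight X.sheaf
    have hsurjO : Function.Surjective (hMap (k := k) ((tensR (Coh.structureModule X)).map π) 0) := fun y => by
      obtain ⟨z, hz⟩ := hsurj (hMap (k := k) (η.app (cokernel t)).hom 0 y)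
      obtain ⟨w, rfl⟩ := (hMap_bijective_iso (k := k) (η.app L) 0).2 z
      refine ⟨w, (hMap_bijective_iso (k := k) (η.app (cokernel t)) 0).1 (Eq.trans ?_ hz)⟩
      show Sheaf.H.map _ 0 (Sheaf.H.map _ 0 w) = Sheaf.H.map _ 0 (Sheaf.H.map _ 0 w)
      rw [← Sheaf.H.map_comp_apply, ← Functor.map_comp, ← Sheaf.H.map_comp_apply, ← Functor.map_comp]
      exact congrArg (fun g => Sheaf.H.map ((QCohLib.toAbF X).map g) 0 w) (η.hom.naturality π)
    have hsurjP : Function.Surjective (hMap (k := k) ((tensR P).map π) 0) := fun y => by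
      obtain ⟨y', rfl⟩ := (hMap_bijective_iso (k := k) (asIso (mulS (cokernel t) u)) 0).2 y
      obtain ⟨w, rfl⟩ := hsurjO y'
      refine ⟨hMap (k := k) (mulS L u) 0 w, ?_⟩
      show Sheaf.H.map _ 0 (Sheaf.H.map _ 0 w) = Sheaf.H.map _ 0 (Sheaf.H.map _ 0 w)
      rw [← Sheaf.H.map_comp_apply, ← Functor.map_comp, ← Sheaf.H.map_comp_apply, ← Functor.map_comp]
      exact congrArg (fun g => Sheaf.H.map ((QCohLib.toAbF X).map g) 0 w) (ModTensor.tensor_exchange X.sheaf π u).symm
    have hinj : Function.Injective (hMap (k := k) ((tensR P).map t) 1) := by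
      rw [← LinearMap.ker_eq_bot]
      refine (range_hδ (k := k) hT 0).symm.trans (LinearMap.range_eq_bot.2 (LinearMap.ext fun y => ?_))
      obtain ⟨w, rfl⟩ := hsurjP y
      have hmem : hMap (k := k) ((tensR P).map π) 0 w ∈ LinearMap.ker (hδ (k := k) hT 0) :=
        (range_hMap_g (k := k) hT 0).le ⟨w, rfl⟩
      exact LinearMap.mem_ker.1 hmem
    have hsur : Function.Surjective (hMap (k := k) ((tensR P).map t) 1) := by
      refine hMap_one_surjective hdim _ hC hd fun x hx => ?_
      haveI : Subsingleton ((cokernel t).presheaf.stalk x) := not_not.1 hx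
      have hst : Function.Surjective (stalkLin t x) := fun z =>
        (DevLib.coker_exact t x z).1 (Subsingleton.elim _ _)
      intro z
      obtain ⟨z, rfl⟩ := (stalkTensor x L P).surjective z
      obtain ⟨w, rfl⟩ := LinearMap.rTensor_surjective (P.presheaf.stalk x) hst z
      exact ⟨stalkTensor x _ P w, stalkTensor_natural_left x t w⟩
    have h1 := (LinearEquiv.ofBijective _ ⟨hinj, hsur⟩).finrank_eq
    calc Module.finrank k (Coh.HH X (CohB1.tensorPow L (n + 1)) 1)
        = Module.finrank k (Coh.HH X (tmod L P) 1) := hMap_bijective_finrank (k := k) (AmpleLib.comm P L) 1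
      _ = Module.finrank k (Coh.HH X (tmod (Coh.structureModule X) P) 1) := h1.symm
      _ = Module.finrank k (Coh.HH X P 1) := hMap_bijective_finrank (k := k) (AmpleLib.unitL P) 1
  have hall : ∀ n, Module.finrank k (Coh.HH X (CohB1.tensorPow L n) 1) = Curv2.genus k X := by
    intro n
    induction n with
    | zero => rfl
    | succ m ih => rw [step m, ih]
  obtain ⟨n₀, hn₀⟩ := exists_vanishing (k := k) hdim hL hpos
    (M := Coh.structureModule X) (DevLib.isCoh_structureModule X)
  haveI := hn₀ n₀ le_rfl
  rw [← hall n₀, ← hMap_bijective_finrank (k := k) (AmpleLib.unitL (CohB1.tensorPow L n₀)) 1]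
  exact Module.finrank_zero_of_subsingleton

end Groth.Agent.CurveLib
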