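import Groth.Agent.CurveLib.Ample
import Groth.Agent.CurveLib.MaxSections
import Groth.Agent.DevLib.Apps
import Groth.Agent.DCohLib.ProjClosed
import Groth.Agent.ProperFin.PushHH
import Groth.Agent.AmpleLib.Pullback

/-!
# Eventual vanishing by dévissage; ampleness on proper schemes of dimension one
-/

set_option autoImplicit false
set_option backward.isDefEq.respectTransparency false
set_option linter.style.haveILetI false

universe u

open CategoryTheory CategoryTheory.Limits AlgebraicGeometry TopologicalSpace Opposite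
open Groth.Agent.PullbackMod Groth.Agent.DCohLib

noncomputable section

namespace Groth.Agent.CurveLib

variable {X : Scheme.{u}}

theorem le_zero_of_lt_one {d : WithBot ℕ∞} (h : d < 1) : d ≤ 0 := by
  induction d using WithBot.recBotCoe with
  | bot => exact bot_le
  | coe a =>
    have h' : a < 1 := WithBot.coe_lt_coe.1 h
    exact WithBot.coe_le_coe.2 (ENat.lt_one_iff_eq_zero.1 h').le

/-- `H¹` of all high twists of `M` vanish. -/
def EvVanish (L M : X.Modules) : Prop :=
  ∃ n₀ : ℕ, ∀ n, n₀ ≤ n → Subsingleton (Coh.HH X (tmod M (CohB1.tensorPow L n)) 1)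

theorem subsingleton_HH_iso {M N : X.Modules} (e : M ≅ N) (p : ℕ) (h : Subsingleton (Coh.HH X M p)) :
    Subsingleton (Coh.HH X N p) := by
  haveI := h
  refine subsingleton_of_forall_eq 0 fun x => ?_
  have h1 : x = Sheaf.H.map ((QCohLib.toAbF X).map e.hom) p (Sheaf.H.map ((QCohLib.toAbF X).map e.inv) p x) := by
    rw [← Sheaf.H.map_comp_apply, ← Functor.map_comp, e.inv_hom_id, CategoryTheory.Functor.map_id,
      Sheaf.H.map_id_apply]
  rw [h1, Subsingleton.elim (α := Coh.HH X M p) (Sheaf.H.map ((QCohLib.toAbF X).map e.inv) p x) 0]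
  exact map_zero _

/-- The reduced closed subscheme with underlying set an irreducible closed set. -/
theorem isIntegral_vanishingIdeal {C : Set X} (hC : IsClosed C) (hirr : IsIrreducible C) :
    IsIntegral (Scheme.IdealSheafData.vanishingIdeal (⟨C, hC⟩ : Closeds X)).subscheme := by
  let I := Scheme.IdealSheafData.vanishingIdeal (⟨C, hC⟩ : Closeds X)
  haveI := DVRCrit.isReduced_vanishingIdeal (⟨C, hC⟩ : Closeds X)
  haveI : IrreducibleSpace I.subscheme := by
    have hr : Set.range I.subschemeι = C := by
      rw [Scheme.IdealSheafData.range_subschemeι, Scheme.IdealSheafData.coe_support_vanishingIdeal]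
      rfl
    haveI : IrreducibleSpace C := Subtype.irreducibleSpace hirr
    have e := I.subschemeι.isClosedEmbedding.isEmbedding.toHomeomorph.trans (Homeomorph.setCongr hr)
    exact e.symm.surjective.irreducibleSpace e.symm.continuous
  exact isIntegral_of_irreducibleSpace_of_isReduced _

theorem dim_vanishingIdeal {C : Set X} (hC : IsClosed C) :
    topologicalKrullDim (Scheme.IdealSheafData.vanishingIdeal (⟨C, hC⟩ : Closeds X)).subscheme =
      topologicalKrullDim C := by
  let I := Scheme.IdealSheafData.vanishingIdeal (⟨C, hC⟩ : Closeds X)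
  have hr : Set.range I.subschemeι = C := by
    rw [Scheme.IdealSheafData.range_subschemeι, Scheme.IdealSheafData.coe_support_vanishingIdeal]
    rfl
  exact (I.subschemeι.isClosedEmbedding.isEmbedding.toHomeomorph.trans
    (Homeomorph.setCongr hr)).isHomeomorph.topologicalKrullDim_eq

/-- Eventual vanishing is decided on integral closed subschemes. -/
theorem evVanish_of_integral [IsNoetherian X] {L : X.Modules} (hL : PicF.IsInvertible L)
    (h : ∀ (C : Set X) (hC : IsClosed C), IsIrreducible C →
      ∀ I : (Scheme.IdealSheafData.vanishingIdeal (⟨C, hC⟩ : Closeds X)).subscheme.Modules, Coh.IsCoh I →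
        EvVanish ((Scheme.Modules.pullback
          (Scheme.IdealSheafData.vanishingIdeal (⟨C, hC⟩ : Closeds X)).subschemeι).obj L) I)
    {M : X.Modules} (hM : Coh.IsCoh M) : EvVanish L M := by
  have hiso : ∀ M N : X.Modules, Nonempty (M ≅ N) → EvVanish L M → EvVanish L N := fun M N ⟨e⟩ ⟨n₀, hn⟩ =>
    ⟨n₀, fun n hn' => subsingleton_HH_iso ((tensR _).mapIso e) 1 (hn n hn')⟩
  have hext : ∀ S : ShortComplex X.Modules, S.ShortExact → EvVanish L S.X₁ → EvVanish L S.X₃ → EvVanish L S.X₂ := by
    rintro S hS ⟨a, ha⟩ ⟨b, hb⟩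
    refine ⟨max a b, fun n hn => ?_⟩
    have hT := shortExact_tensR hS (freeAt_one_of_isInvertible (AmpleLib.isInvertible_tensorPow hL n))
    exact SerreAff.subsingleton_mid hT 1 (ha n (le_of_max_le_left hn)) (hb n (le_of_max_le_right hn))
  refine DevLib.devissage Set.univ (EvVanish L) hiso ?_ (fun S hS _ _ _ _ => hext S hS) ?_ M hM (Set.subset_univ _)
  · intro N hN
    refine ⟨0, fun n _ => ?_⟩
    have hz : IsZero ((QCohLib.toAbF X).obj (tmod N (CohB1.tensorPow L n))) :=
      (QCohLib.toAbF X).map_isZero ((tensR _).map_isZero hN)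
    refine subsingleton_of_forall_eq 0 fun x => ?_
    rw [← Sheaf.H.map_id_apply (x := x), hz.eq_of_src (𝟙 _) 0]
    show x.comp (Abelian.Ext.mk₀ 0) (add_zero 1) = 0
    rw [Abelian.Ext.mk₀_zero, Abelian.Ext.comp_zero]
  · intro ξ _ hξ Q hQ hsm
    let J := Scheme.IdealSheafData.vanishingIdeal (⟨closure {ξ}, isClosed_closure⟩ : Closeds X)
    let Z := J.subscheme
    let i : Z ⟶ X := J.subschemeι
    have hirr : IsIrreducible (closure ({ξ} : Set X)) := isIrreducible_singleton.closure
    haveI hZ : IsIntegral Z := isIntegral_vanishingIdeal isClosed_closure hirr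
    have hr : Set.range i = closure {ξ} := by
      rw [Scheme.IdealSheafData.range_subschemeι, Scheme.IdealSheafData.coe_support_vanishingIdeal]
      rfl
    have hgen : i (genericPoint Z) = ξ := by
      have h1 : IsGenericPoint (i (genericPoint Z)) (closure {ξ}) := by
        have := (genericPoint_spec Z).image i.continuous
        rwa [Set.image_univ, hr, closure_closure] at this
      exact h1.eq isGenericPoint_closure
    rw [← hgen] at hξ hQ hsm
    refine DevLib.piece_of_ext Set.univ hξ (EvVanish L) (fun S hS _ _ _ _ => hext S hS)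
      (DevLib.isPiece_pushUnit i) (fun H q hq hH => ?_) hQ hsm
    haveI := hq
    obtain ⟨I, ι, hι, hIq, ⟨e⟩⟩ := DevLib.exists_ideal_of_mono i q hH.1
    haveI : IsLocallyNoetherian Z := LocallyOfFiniteType.isLocallyNoetherian i
    haveI := hι
    obtain ⟨n₀, hn₀⟩ := h _ isClosed_closure hirr I (QCohLib.isCoh_of_mono ι (DevLib.isCoh_structureModule Z) hIq)
    refine ⟨n₀, fun n hn => ?_⟩
    have hinv := AmpleLib.isInvertible_tensorPow (AmpleLib.isInvertible_pullback i hL) n
    have h1 := hn₀ n hn
    have h2 : Subsingleton (Coh.HH Z (tmod I ((Scheme.Modules.pullback i).obj (CohB1.tensorPow L n))) 1) :=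
      subsingleton_HH_iso (((DCoh.tensorBi (X := Z)).obj I).mapIso (AmpleLib.pullPow i L n).symm) 1 h1
    haveI : IsNoetherian Z := { toCompactSpace := QuasiCompact.compactSpace_of_compactSpace i }
    haveI : Coh.IsQCoh (tmod I ((Scheme.Modules.pullback i).obj (CohB1.tensorPow L n))) :=
      (isCoh_tmod (QCohLib.isCoh_of_mono ι (DevLib.isCoh_structureModule Z) hIq)
        (isCoh_of_isInvertible (AmpleLib.isInvertible_pullback i (AmpleLib.isInvertible_tensorPow hL n)))).1
    obtain ⟨e', -⟩ := ProperFin.exists_pushEquiv i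
      (M := tmod I ((Scheme.Modules.pullback i).obj (CohB1.tensorPow L n)))
      (fun _ hV m => CohBase.affine_vanishing _ (hV.preimage i) m) 1
    haveI := h2
    exact subsingleton_HH_iso ((projIso i I (CohB1.tensorPow L n)).symm ≪≫ (tensR _).mapIso e) 1
      e'.symm.toEquiv.subsingleton

/-- An irreducible closed subset of dimension one of a space of dimension at most one is a component. -/
theorem mem_irreducibleComponents (hdim : topologicalKrullDim X ≤ 1) {C : Set X} (hC : IsClosed C)
    (hirr : IsIrreducible C) (hd : topologicalKrullDim C = 1) : C ∈ irreducibleComponents (X : Type u) := by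
  refine ⟨hirr, fun Z hZ hle => ?_⟩
  by_contra hne
  let C₀ : IrreducibleCloseds X := ⟨C, hirr, hC⟩
  let C₁ : IrreducibleCloseds X := ⟨closure Z, hZ.closure, isClosed_closure⟩
  have h01 : C₀ < C₁ :=
    lt_of_le_of_ne (fun x hx => subset_closure (hle hx)) fun e =>
      hne (fun x hx => (congrArg SetLike.coe e).ge (subset_closure hx))
  have hh : (Order.height C₀ : WithBot ℕ∞) + 1 ≤ Order.height C₁ := by
    exact_mod_cast Order.height_add_one_le h01
  have h2 : (Order.height C₁ : WithBot ℕ∞) ≤ 1 := (Order.height_le_krullDim C₁).trans hdim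
  have h3 : Order.height C₀ = 0 := by
    have h4 : (Order.height C₀ : WithBot ℕ∞) + 1 ≤ 1 := hh.trans h2
    cases hn : Order.height C₀ with
    | top => rw [hn] at h4; exact absurd h4 (by decide)
    | coe n =>
      rw [hn] at h4
      have h5 : n + 1 ≤ 1 := by exact_mod_cast h4
      simp only [Nat.cast_eq_zero]
      omega
  have hmin : IsMin C₀ := Order.height_eq_zero.1 h3
  have hle0 : topologicalKrullDim C ≤ 0 := by
    refine Order.krullDim_nonpos_iff_forall_isMax.2 fun A B hAB => ?_
    let f : IrreducibleCloseds C → IrreducibleCloseds X := fun A =>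
      ⟨(↑) '' (A : Set C), A.isIrreducible.image _ continuous_subtype_val.continuousOn,
        hC.isClosedEmbedding_subtypeVal.isClosedMap _ A.isClosed⟩
    have hfle : ∀ A, f A = C₀ := fun A =>
      le_antisymm (fun x hx => by obtain ⟨y, -, rfl⟩ := hx; exact y.2) (hmin (fun x hx => by obtain ⟨y, -, rfl⟩ := hx; exact y.2))
    have he : A = B := SetLike.coe_injective (Subtype.val_injective.image_injective
      (congrArg SetLike.coe ((hfle A).trans (hfle B).symm)))
    exact he.symm.le
  rw [hd] at hle0
  exact absurd hle0 (by decide)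

variable (k : Type u) [Field k] [X.Over (Spec (CommRingCat.of k))] [IsProper (X ↘ Spec (CommRingCat.of k))]

/-- Positive degree on the curves in `X` gives ampleness. -/
theorem isAmple_of_deg_pos (hdim : topologicalKrullDim X ≤ 1) {L : X.Modules} (hL : PicF.IsInvertible L)
    (h : ∀ (C : Set X) (hC : IsClosed C), IsIrreducible C → topologicalKrullDim C = 1 →
      0 < @Curv2.deg k _ (Scheme.IdealSheafData.vanishingIdeal (⟨C, hC⟩ : Closeds X)).subscheme
        ⟨(Scheme.IdealSheafData.vanishingIdeal (⟨C, hC⟩ : Closeds X)).subschemeι ≫ (X ↘ Spec (CommRingCat.of k))⟩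
        ((Scheme.Modules.pullback (Scheme.IdealSheafData.vanishingIdeal (⟨C, hC⟩ : Closeds X)).subschemeι).obj L) 1) :
    CohB1.IsAmple L := by
  haveI := EulerIneqLib.isNoetherian_proper (X := X) k
  refine isAmple_of_vanishing hL fun J j _ hJ => ?_
  have hint : ∀ (C : Set X) (hC : IsClosed C), IsIrreducible C →
      ∀ I : (Scheme.IdealSheafData.vanishingIdeal (⟨C, hC⟩ : Closeds X)).subscheme.Modules, Coh.IsCoh I →
        EvVanish ((Scheme.Modules.pullback
          (Scheme.IdealSheafData.vanishingIdeal (⟨C, hC⟩ : Closeds X)).subschemeι).obj L) I := by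
    intro C hC hirr I hI
    let J := Scheme.IdealSheafData.vanishingIdeal (⟨C, hC⟩ : Closeds X)
    let Z := J.subscheme
    let i : Z ⟶ X := J.subschemeι
    haveI hZ : IsIntegral Z := isIntegral_vanishingIdeal hC hirr
    letI : Z.Over (Spec (CommRingCat.of k)) := ⟨i ≫ (X ↘ Spec (CommRingCat.of k))⟩
    haveI : IsProper (Z ↘ Spec (CommRingCat.of k)) :=
      inferInstanceAs (IsProper (i ≫ (X ↘ Spec (CommRingCat.of k))))
    have hdZ : topologicalKrullDim Z = topologicalKrullDim C := dim_vanishingIdeal hC
    have hle : topologicalKrullDim C ≤ topologicalKrullDim X :=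
      Topology.IsInducing.subtypeVal.topologicalKrullDim_le
    by_cases hd : topologicalKrullDim C = 1
    · exact exists_vanishing (k := k) (hdZ.trans hd).le (AmpleLib.isInvertible_pullback i hL) (h C hC hirr hd) hI
    · haveI := EulerIneqLib.isNoetherian_proper (X := Z) k
      refine ⟨0, fun n _ => subsingleton_HH_of_dim _ (d := 0) ?_ one_pos⟩
      rw [hdZ]
      exact le_zero_of_lt_one (lt_of_le_of_ne (hle.trans hdim) hd)
  obtain ⟨n₀, hn₀⟩ := evVanish_of_integral hL hint (QCohLib.isCoh_of_mono j (DevLib.isCoh_structureModule X) hJ)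
  have h1 := hn₀ (n₀ + 1) (Nat.le_succ n₀)
  exact ⟨n₀, h1⟩

end Groth.Agent.CurveLib
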