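import Groth.Prelude.Def_CurvBase
import Groth.Agent.EulerIneqLib.Basic
import Groth.Agent.CohBase.Affine
import Groth.Agent.GrothVan.Support
import Groth.Agent.S0016

/-!
# Euler characteristics on proper schemes over a field
-/

set_option autoImplicit false
set_option backward.isDefEq.respectTransparency false
set_option linter.style.haveILetI false

universe u

open CategoryTheory CategoryTheory.Limits AlgebraicGeometry TopologicalSpace Opposite

noncomputable section

namespace Groth.Agent.CurveLib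

variable {k : Type u} [CommRing k] {X : Scheme.{u}} [X.Over (Spec (CommRingCat.of k))]

/-- The map on cohomology. -/
def hMap {M N : X.Modules} (f : M ⟶ N) (n : ℕ) : Coh.HH X M n →ₗ[k] Coh.HH X N n where
  toFun := Sheaf.H.map ((QCohLib.toAbF X).map f) n
  map_add' := map_add _
  map_smul' a x := by
    show Sheaf.H.map _ n (Sheaf.H.map (Coh.smulAb M (Coh.toGlobal (X ↘ Spec (CommRingCat.of k)) a)) n x) =
      Sheaf.H.map (Coh.smulAb N (Coh.toGlobal (X ↘ Spec (CommRingCat.of k)) a)) n (Sheaf.H.map _ n x)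
    rw [← Sheaf.H.map_comp_apply, ← Sheaf.H.map_comp_apply]
    exact congrArg (fun e => Sheaf.H.map e n x) (ProjCoh.smulAb_natural f _)

variable {S : ShortComplex X.Modules} (hS : S.ShortExact)

/-- The connecting map. -/
def hδ (n : ℕ) : Coh.HH X S.X₃ n →ₗ[k] Coh.HH X S.X₁ (n + 1) where
  toFun := (QCohLib.toAb_shortExact hS).extClass.postcomp _ rfl
  map_add' := map_add _
  map_smul' a x := by
    have hS' := QCohLib.toAb_shortExact hS
    let r := Coh.toGlobal (X ↘ Spec (CommRingCat.of k)) a
    show (x.comp (Abelian.Ext.mk₀ (Coh.smulAb S.X₃ r)) (add_zero n)).comp hS'.extClass rfl =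
      (x.comp hS'.extClass rfl).comp (Abelian.Ext.mk₀ (Coh.smulAb S.X₁ r)) (add_zero (n + 1))
    rw [Abelian.Ext.comp_assoc_of_second_deg_zero, Abelian.Ext.comp_assoc_of_third_deg_zero]
    exact congrArg (fun e => x.comp e rfl)
      (ShortComplex.ShortExact.extClass_naturality hS' hS' (ProperFin.smulSeq S r)).symm

include hS in
lemma range_hMap_f (n : ℕ) : LinearMap.range (hMap (k := k) S.f n) = LinearMap.ker (hMap (k := k) S.g n) := by
  have hS' := QCohLib.toAb_shortExact hS
  refine le_antisymm ?_ fun x hx => Abelian.Ext.covariant_sequence_exact₂ _ hS' x hx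
  rintro _ ⟨x, rfl⟩
  show Sheaf.H.map _ n (Sheaf.H.map _ n x) = 0
  rw [← Sheaf.H.map_comp_apply]
  refine Eq.trans (congrArg (fun e => Sheaf.H.map e n x) (S.map (QCohLib.toAbF X)).zero) ?_
  show x.comp (Abelian.Ext.mk₀ 0) (add_zero n) = 0
  rw [Abelian.Ext.mk₀_zero, Abelian.Ext.comp_zero]

lemma range_hMap_g (n : ℕ) : LinearMap.range (hMap (k := k) S.g n) = LinearMap.ker (hδ hS n) := by
  have hS' := QCohLib.toAb_shortExact hS
  refine le_antisymm ?_ fun x hx => Abelian.Ext.covariant_sequence_exact₃ _ hS' x rfl hx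
  rintro _ ⟨x, rfl⟩
  show (x.comp (Abelian.Ext.mk₀ (S.map (QCohLib.toAbF X)).g) (add_zero n)).comp hS'.extClass rfl = 0
  refine (Abelian.Ext.comp_assoc_of_second_deg_zero _ _ _ _).trans ?_
  exact (congrArg (fun e => x.comp e rfl) hS'.comp_extClass).trans (Abelian.Ext.comp_zero _ _ _ _ _)

lemma range_hδ (n : ℕ) : LinearMap.range (hδ (k := k) hS n) = LinearMap.ker (hMap (k := k) S.f (n + 1)) := by
  have hS' := QCohLib.toAb_shortExact hS
  refine le_antisymm ?_ fun x hx => Abelian.Ext.covariant_sequence_exact₁ _ hS' x hx rfl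
  rintro _ ⟨x, rfl⟩
  show (x.comp hS'.extClass rfl).comp (Abelian.Ext.mk₀ (S.map (QCohLib.toAbF X)).f) (add_zero (n + 1)) = 0
  refine (Abelian.Ext.comp_assoc_of_third_deg_zero _ _ _ _).trans ?_
  exact (congrArg (fun e => x.comp e rfl) hS'.extClass_comp).trans (Abelian.Ext.comp_zero _ _ _ _ _)

include hS in
lemma hMap_f_zero_injective : Function.Injective (hMap (k := k) S.f 0) := fun a b h => by
  haveI := (QCohLib.toAb_shortExact hS).mono_f
  exact Abelian.Ext.postcomp_mk₀_injective_of_mono _ (S.map (QCohLib.toAbF X)).f h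

include hS in
lemma subsingleton_mid (n : ℕ) [Subsingleton (Coh.HH X S.X₁ n)] [Subsingleton (Coh.HH X S.X₃ n)] :
    Subsingleton (Coh.HH X S.X₂ n) := by
  have hS' := QCohLib.toAb_shortExact hS
  refine subsingleton_of_forall_eq 0 fun x => ?_
  obtain ⟨w, hw⟩ := Abelian.Ext.covariant_sequence_exact₂ _ hS' x (Subsingleton.elim (α := Coh.HH X S.X₃ n) _ _)
  rw [← hw, Subsingleton.elim (α := Coh.HH X S.X₁ n) w 0, Abelian.Ext.zero_comp]

section Field

variable {K : Type u} [Field K] [X.Over (Spec (CommRingCat.of K))] [IsProper (X ↘ Spec (CommRingCat.of K))]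

lemma exists_bound (K : Type u) [Field K] [X.Over (Spec (CommRingCat.of K))]
    [IsProper (X ↘ Spec (CommRingCat.of K))] : ∃ N : ℕ, ∀ (M : X.Modules), Coh.IsQCoh M → ∀ p, N ≤ p → Subsingleton (Coh.HH X M p) := by
  haveI := EulerIneqLib.isNoetherian_proper (X := X) K
  exact S0016.result X

lemma euler_eq_sum (M : X.Modules) (N : ℕ) (h : ∀ p, N ≤ p → Subsingleton (Coh.HH X M p)) :
    Curv2.euler K X M = ∑ i ∈ Finset.range N, (-1 : ℤ) ^ i * (Module.finrank K (Coh.HH X M i) : ℤ) := by
  refine finsum_eq_sum_of_support_subset _ fun i hi => ?_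
  simp only [Finset.coe_range, Set.mem_Iio]
  by_contra hc
  haveI := h i (not_lt.1 hc)
  exact hi (by simp [Module.finrank_zero_of_subsingleton])

lemma euler_iso {M N : X.Modules} (e : M ≅ N) : Curv2.euler K X M = Curv2.euler K X N := by
  refine finsum_congr fun i => ?_
  have e' : Coh.HH X M i ≃ₗ[K] Coh.HH X N i :=
    LinearEquiv.ofLinearMap (hMap e.hom i) (hMap e.inv i)
      (LinearMap.ext fun x => by
        show Sheaf.H.map _ i (Sheaf.H.map _ i x) = x
        rw [← Sheaf.H.map_comp_apply, ← Functor.map_comp, e.inv_hom_id, CategoryTheory.Functor.map_id,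
          Sheaf.H.map_id_apply])
      (LinearMap.ext fun x => by
        show Sheaf.H.map _ i (Sheaf.H.map _ i x) = x
        rw [← Sheaf.H.map_comp_apply, ← Functor.map_comp, e.hom_inv_id, CategoryTheory.Functor.map_id,
          Sheaf.H.map_id_apply])
  rw [e'.finrank_eq]

include hS in
theorem euler_shortExact (h₁ : Coh.IsCoh S.X₁) (h₂ : Coh.IsCoh S.X₂) (h₃ : Coh.IsCoh S.X₃) :
    Curv2.euler K X S.X₂ = Curv2.euler K X S.X₁ + Curv2.euler K X S.X₃ := by
  obtain ⟨N, hN⟩ := exists_bound (X := X) K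
  haveI := fun n => EulerIneqLib.finite_HH (k := K) h₁ n
  haveI := fun n => EulerIneqLib.finite_HH (k := K) h₂ n
  haveI := fun n => EulerIneqLib.finite_HH (k := K) h₃ n
  let a := fun i : ℕ => (Module.finrank K (Coh.HH X S.X₁ i) : ℤ)
  let b := fun i : ℕ => (Module.finrank K (Coh.HH X S.X₂ i) : ℤ)
  let c := fun i : ℕ => (Module.finrank K (Coh.HH X S.X₃ i) : ℤ)
  let rf := fun i : ℕ => (Module.finrank K (LinearMap.range (hMap (k := K) S.f i)) : ℤ)
  let rg := fun i : ℕ => (Module.finrank K (LinearMap.range (hMap (k := K) S.g i)) : ℤ)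
  let rd := fun i : ℕ => (Module.finrank K (LinearMap.range (hδ (k := K) hS i)) : ℤ)
  have ha0 : a 0 = rf 0 := by
    simp only [a, rf, LinearMap.finrank_range_of_inj (hMap_f_zero_injective (k := K) hS)]
  have ha : ∀ i, a (i + 1) = rd i + rf (i + 1) := fun i => by
    have h := (hMap (k := K) S.f (i + 1)).finrank_range_add_finrank_ker
    rw [← range_hδ hS i] at h
    simp only [a, rd, rf, ← h]
    push_cast
    ring
  have hb : ∀ i, b i = rf i + rg i := fun i => by
    have h := (hMap (k := K) S.g i).finrank_range_add_finrank_ker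
    rw [← range_hMap_f hS i] at h
    simp only [b, rf, rg, ← h]
    push_cast
    ring
  have hc : ∀ i, c i = rg i + rd i := fun i => by
    have h := (hδ (k := K) hS i).finrank_range_add_finrank_ker
    rw [← range_hMap_g hS i] at h
    simp only [c, rg, rd, ← h]
    push_cast
    ring
  have key : ∀ n, ∑ i ∈ Finset.range (n + 1), (-1 : ℤ) ^ i * (a i - b i + c i) = (-1) ^ n * rd n := by
    intro n
    induction n with
    | zero => simp [ha0, hb, hc]
    | succ n ih => rw [Finset.sum_range_succ, ih, ha, hb, hc, pow_succ]; ring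
  have hN' : rd N = 0 := by
    haveI := hN _ h₃.1 N le_rfl
    have h0 : hδ (k := K) hS N = 0 := LinearMap.ext fun x => by rw [Subsingleton.elim x 0, map_zero, LinearMap.zero_apply]
    show ((Module.finrank K (LinearMap.range (hδ (k := K) hS N)) : ℕ) : ℤ) = 0
    rw [h0, LinearMap.range_zero, finrank_bot]
    rfl
  have h0 := key N
  rw [hN', mul_zero] at h0
  rw [euler_eq_sum S.X₁ (N + 1) fun p hp => hN _ h₁.1 p (by omega),
    euler_eq_sum S.X₂ (N + 1) fun p hp => hN _ h₂.1 p (by omega),
    euler_eq_sum S.X₃ (N + 1) fun p hp => hN _ h₃.1 p (by omega)]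
  simp only [mul_add, mul_sub, Finset.sum_add_distrib, Finset.sum_sub_distrib, a, b, c] at h0
  linarith

end Field

/-- Vanishing above the dimension of the support. -/
theorem subsingleton_HH_of_support [IsNoetherian X] (M : X.Modules) {C : Set X} (hC : IsClosed C)
    (hM : CohB1.support M ⊆ C) {d : ℕ} (hd : topologicalKrullDim C ≤ d) {p : ℕ} (hp : d < p) :
    Subsingleton (Coh.HH X M p) :=
  GrothVan.subsingleton_H_of_support (X := X.toPresheafedSpace.carrier) (Coh.toAb M) hC
    (fun x hx => by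
      by_contra hc
      exact hx (hM hc)) hd hp

/-- No cohomology above the dimension. -/
theorem subsingleton_HH_of_dim [IsNoetherian X] (M : X.Modules) {d : ℕ}
    (hd : topologicalKrullDim X ≤ d) {p : ℕ} (hp : d < p) : Subsingleton (Coh.HH X M p) :=
  GrothVan.subsingleton_H_of_dim_le (X := X.toPresheafedSpace.carrier) hd (Coh.toAb M) hp

end Groth.Agent.CurveLib
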