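import Groth.Agent.CurveLib.TensorExact
import Groth.Agent.SerreAff.Basic
import Groth.Agent.AmpleLib.Tensor

/-!
# Serre's criterion of ampleness
-/

set_option autoImplicit false
set_option backward.isDefEq.respectTransparency false
set_option linter.style.haveILetI false

universe u

open CategoryTheory CategoryTheory.Limits AlgebraicGeometry TopologicalSpace Opposite
open Groth.Agent.PullbackMod Groth.Agent.DCohLib Groth.Agent.ParaFLib
open scoped TensorProduct

noncomputable section

namespace Groth.Agent.CurveLib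

variable {X : Scheme.{u}}

theorem bijective_smul_iff {R : Type u} [CommRing R] {M : Type u} [AddCommGroup M] [Module R M] {e : M}
    (he : Function.Bijective fun r : R => r • e) (a : R) :
    Function.Bijective (fun r : R => r • (a • e)) ↔ IsUnit a := by
  constructor
  · intro h
    obtain ⟨b, hb⟩ := h.2 e
    refine IsUnit.of_mul_eq_one b ?_
    apply he.1
    show (a * b) • e = (1 : R) • e
    rw [one_smul, mul_comm, mul_smul]
    exact hb
  · intro h
    have : (fun r : R => r • (a • e)) = (fun r : R => r • e) ∘ fun r => r * a := funext fun r => (mul_smul r a e).symm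
    rw [this]
    exact he.comp ((Units.mulRight h.unit).bijective)

theorem tmul_left_cancel {R : Type u} [CommRing R] {A M : Type u} [AddCommGroup A] [Module R A]
    [AddCommGroup M] [Module R M] {e : M} (he : Function.Bijective fun r : R => r • e) {q : A}
    (h : q ⊗ₜ[R] e = 0) : q = 0 := by
  let f : R ≃ₗ[R] M := LinearEquiv.ofBijective (LinearMap.toSpanSingleton R M e) he
  have h1 := congrArg (LinearEquiv.lTensor A f.symm ≪≫ₗ TensorProduct.rid R A) h
  rw [map_zero] at h1
  have h2 : f.symm e = 1 := f.symm_apply_eq.2 (one_smul R e).symm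
  simpa [h2] using h1

/-- The germ of the unit section. -/
abbrev uni (X : Scheme.{u}) (y : X) : (Coh.structureModule X).presheaf.stalk y :=
  (Coh.structureModule X).presheaf.germ ⊤ y trivial (1 : Γ(X, ⊤))

theorem uni_germ (y : X) (V : X.Opens) (hy : y ∈ V) :
    (Coh.structureModule X).presheaf.germ V y hy (1 : Γ(X, V)) = uni X y := by
  refine Eq.trans ?_ (TopCat.Presheaf.germ_res_apply (Coh.structureModule X).presheaf
    (homOfLE (le_top : V ≤ ⊤)) y hy (1 : Γ(X, ⊤)))
  exact congrArg _ (X.presheaf.map (homOfLE (le_top : V ≤ ⊤)).op).hom.map_one.symm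

theorem tmul_uni_bijective (y : X) {M : Type u} [AddCommGroup M] [Module (X.presheaf.stalk y) M] :
    Function.Bijective fun m : M =>
      uni X y ⊗ₜ[X.presheaf.stalk y] m := by
  let eS : X.presheaf.stalk y ≃ₗ[X.presheaf.stalk y] (Coh.structureModule X).presheaf.stalk y :=
    LinearEquiv.ofBijective (LinearMap.toSpanSingleton _ _ (uni X y))
      (bijective_oneG y)
  let E := (TensorProduct.lid (X.presheaf.stalk y) M).symm ≪≫ₗ LinearEquiv.rTensor M eS
  have : (fun m : M => uni X y ⊗ₜ[X.presheaf.stalk y] m) = E := by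
    funext m
    simp [E, eS]
  rw [this]
  exact E.bijective

/-- A section not vanishing at a closed point and vanishing on a closed set. -/
theorem exists_section {M : X.Modules} (hM : PicF.IsInvertible M) {x : X} (hx : IsClosed ({x} : Set X))
    {Z : Set X} (hZ : IsClosed Z) (hxZ : x ∉ Z)
    (i : (Scheme.IdealSheafData.vanishingIdeal (⟨Z ∪ {x}, hZ.union hx⟩ : Closeds X)).subscheme ⟶ X)
    (hi : i = (Scheme.IdealSheafData.vanishingIdeal (⟨Z ∪ {x}, hZ.union hx⟩ : Closeds X)).subschemeι)
    (h : Subsingleton (Coh.HH X (tmod (kernel (ClSub.unitToPush i)) M) 1)) :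
    ∃ s : Coh.structureModule X ⟶ M, x ∈ CohB1.genLocus M s ∧ ∀ z ∈ Z, z ∉ CohB1.genLocus M s := by
  let I := Scheme.IdealSheafData.vanishingIdeal (⟨Z ∪ {x}, hZ.union hx⟩ : Closeds X)
  subst hi
  let i := I.subschemeι
  have hr : Set.range i = Z ∪ {x} := by
    rw [Scheme.IdealSheafData.range_subschemeι, Scheme.IdealSheafData.coe_support_vanishingIdeal]
    rfl
  haveI := SerreAff.epi_unitToPush i
  let π := ClSub.unitToPush i
  let Q := (Scheme.Modules.pushforward i).obj (Coh.structureModule I.subscheme)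
  let T : ShortComplex X.Modules := ShortComplex.mk (kernel.ι π) π (kernel.condition π)
  have hT : T.ShortExact := ShortComplex.ShortExact.mk'
    (ShortComplex.exact_of_f_is_kernel _ (kernelIsKernel π)) inferInstance inferInstance
  have hTM := shortExact_tensR hT (freeAt_one_of_isInvertible hM)
  haveI : Subsingleton (CohBase.HU (⊤ : X.Opens) ((T.map (tensR M)).map (QCohLib.toAbF X)).X₁ 1) :=
    SerreAff.subsingleton_HU_top h
  have hsurj : Function.Surjective ((tmap π M).app ⊤) :=
    CohBase.sections_surjective (QCohLib.toAb_shortExact hTM) ⊤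
  -- the local basis
  obtain ⟨W₀, e₀, hxW₀, he₀⟩ := exists_gen_nhd hM x
  let V : X.Opens := W₀ ⊓ ⟨Zᶜ, hZ.isOpen_compl⟩
  have hxV : x ∈ V := ⟨hxW₀, hxZ⟩
  let e : Γ(M, V) := M.presheaf.map (homOfLE inf_le_left).op e₀
  have he : Gen V e := he₀.res inf_le_left
  let U : X.Opens := ⟨{x}ᶜ, hx.isOpen_compl⟩
  let one : ∀ O : X.Opens, Γ(Q, O) := fun O => π.app O (1 : Γ(X, O))
  have hempty : ∀ (O : X.Opens) (m : Γ(M, O)), O ≤ V ⊓ U → pairS Q M (one O) m = 0 := by
    intro O m hO
    haveI hs : Subsingleton Γ(Q, O) := by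
      have hb : i ⁻¹ᵁ O = ⊥ := by
        refine le_bot_iff.1 fun w hw => ?_
        obtain ⟨h1, h2⟩ := hO hw
        rcases (hr ▸ Set.mem_range_self w : i w ∈ Z ∪ {x}) with h' | h'
        · exact h1.2 h'
        · exact h2 h'
      show Subsingleton Γ(I.subscheme, i ⁻¹ᵁ O)
      rw [hb]
      exact CommRingCat.subsingleton_of_isTerminal I.subscheme.sheaf.isTerminalOfEmpty
    have h2 := pairS_add_left (one O) (one O) m
    rwa [Subsingleton.elim (one O + one O) (one O), left_eq_add] at h2
  let F : TopCat.Sheaf Ab.{u} X.carrier := ⟨(tmod Q M).presheaf, (tmod Q M).isSheaf⟩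
  let sf : ∀ b : ULift.{u} Bool, Γ(tmod Q M, (fun b : ULift.{u} Bool => bif b.down then V else U) b)
    | ⟨true⟩ => pairS Q M (one V) e
    | ⟨false⟩ => 0
  obtain ⟨τ, hτ, -⟩ := F.existsUnique_gluing'
    (fun b : ULift.{u} Bool => bif b.down then V else U) ⊤ (fun _ => homOfLE le_top)
    (fun w _ => by
      by_cases h' : w = x
      · exact Opens.mem_iSup.2 ⟨⟨true⟩, h' ▸ hxV⟩
      · exact Opens.mem_iSup.2 ⟨⟨false⟩, h'⟩) sf (by
      have h0 : ∀ (O : X.Opens) (h1 : O ≤ V) (h2 : O ≤ U),
          (tmod Q M).presheaf.map (homOfLE h1).op (pairS Q M (one V) e) = 0 := by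
        intro O h1 h2
        rw [res_pairS, show Q.presheaf.map (homOfLE h1).op (one V) = one O from
          DCohLib.app_one_natural π h1]
        exact hempty O _ (le_inf h1 h2)
      rintro ⟨_ | _⟩ ⟨_ | _⟩
      · rfl
      · exact (map_zero _).trans (h0 (U ⊓ V) inf_le_right inf_le_left).symm
      · exact (h0 (V ⊓ U) inf_le_left inf_le_right).trans (map_zero _).symm
      · rfl)
  obtain ⟨σ', hσ'⟩ := hsurj τ
  let M' := tmod (Coh.structureModule X) M
  have hM' : PicF.IsInvertible M' := AmpleLib.isInvertible_tensor ParaFLib.isInvertible_structureModule hM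
  refine ⟨DCohLib.secHom M' σ' ≫ (tmodUnit M).hom, ?_⟩
  simp only [AmpleLib.genLocus_comp_iso]
  -- germs
  have key : ∀ (y : X) (e' : M.presheaf.stalk y) (he' : Function.Bijective fun r : X.presheaf.stalk y => r • e'),
      ∃ a : X.presheaf.stalk y, (y ∈ CohB1.genLocus M' (DCohLib.secHom M' σ') ↔ IsUnit a) ∧
        (tmod Q M).presheaf.germ ⊤ y trivial τ =
          a • stalkTensor y Q M (stalkLin π y (uni X y) ⊗ₜ e') := by
    intro y e' he'
    obtain ⟨z, hz⟩ := (stalkTensor y (Coh.structureModule X) M).surjective (M'.presheaf.germ ⊤ y trivial σ')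
    let one' : (Coh.structureModule X).presheaf.stalk y := uni X y
    have hz1 : ∀ w : (Coh.structureModule X).presheaf.stalk y ⊗[X.presheaf.stalk y] M.presheaf.stalk y,
        ∃ a : X.presheaf.stalk y, w = a • (one' ⊗ₜ e') := by
      intro w
      induction w with
      | zero => exact ⟨0, (zero_smul _ _).symm⟩
      | tmul q m =>
        obtain ⟨c, rfl⟩ := he'.2 m
        obtain ⟨b, rfl⟩ : ∃ b : X.presheaf.stalk y, b • one' = q := (bijective_oneG y).2 q
        refine ⟨b * c, ?_⟩
        rw [TensorProduct.smul_tmul', TensorProduct.tmul_smul, TensorProduct.smul_tmul', ← mul_smul, mul_comm]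
      | add w w' hw hw' =>
        obtain ⟨a, rfl⟩ := hw
        obtain ⟨a', rfl⟩ := hw'
        exact ⟨a + a', (add_smul _ _ _).symm⟩
    obtain ⟨a, rfl⟩ := hz1 z
    refine ⟨a, ?_, ?_⟩
    · rw [AmpleLib.mem_genLocus_iff hM', AmpleLib.sec_secHom, ← hz, map_smul]
      refine bijective_smul_iff ?_ a
      obtain ⟨n₁⟩ := freeAt_one_of_isInvertible hM y
      have hfun : (fun r : X.presheaf.stalk y => r • stalkTensor y (Coh.structureModule X) M (one' ⊗ₜ e')) =
          (stalkTensor y (Coh.structureModule X) M) ∘ (fun m => one' ⊗ₜ m) ∘ fun r => r • e' := by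
        funext r
        show r • stalkTensor y (Coh.structureModule X) M (one' ⊗ₜ e') =
          stalkTensor y (Coh.structureModule X) M (one' ⊗ₜ (r • e'))
        rw [TensorProduct.tmul_smul, map_smul]
      rw [hfun]
      refine (stalkTensor y (Coh.structureModule X) M).bijective.comp (Function.Bijective.comp ?_ he')
      exact tmul_uni_bijective y (M := M.presheaf.stalk y)
    · have h1 : stalkLin (tmap π M) y (M'.presheaf.germ ⊤ y trivial σ') =
          (tmod Q M).presheaf.germ ⊤ y trivial τ := by rw [stalkLin_germ, hσ']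
      rw [← h1, ← hz, map_smul, map_smul]
      exact congrArg (a • ·) (stalkTensor_natural_left y π _)
  have hq : ∀ y, y ∈ Z ∪ {x} → stalkLin π y (uni X y) ≠ 0 := by
    intro y hy h0
    obtain ⟨w, rfl⟩ : y ∈ Set.range i := hr ▸ hy
    have h0' : Q.presheaf.germ ⊤ (i w) trivial (one ⊤) = Q.presheaf.germ ⊤ (i w) trivial 0 := by
      rw [map_zero, ← h0]
      exact (stalkLin_germ π (U := ⊤) (i w) trivial _).symm
    obtain ⟨O, hO, k, _, hk⟩ := TopCat.Presheaf.germ_eq Q.presheaf (U := (⊤ : X.Opens)) (V := (⊤ : X.Opens)) (i w) trivial trivial _ _ h0'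
    rw [map_zero] at hk
    have h1 : (1 : Γ(I.subscheme, i ⁻¹ᵁ O)) = 0 := by
      refine ((map_one (i.app O).hom).symm.trans ?_).trans hk
      exact (DCohLib.app_one_natural π (leOfHom k)).symm
    have h2 := congrArg (I.subscheme.presheaf.germ (i ⁻¹ᵁ O) w hO).hom h1
    rw [map_one, map_zero] at h2
    exact one_ne_zero h2
  constructor
  · obtain ⟨a, ha, hτy⟩ := key x (M.presheaf.germ V x hxV e) (he.bijective_germ x hxV)
    rw [ha]
    by_contra hu
    have h1 : (tmod Q M).presheaf.germ ⊤ x trivial τ =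
        stalkTensor x Q M (stalkLin π x (uni X x) ⊗ₜ M.presheaf.germ V x hxV e) := by
      have h2 := congrArg ((tmod Q M).presheaf.germ V x hxV) (hτ ⟨true⟩)
      refine ((TopCat.Presheaf.germ_res_apply (tmod Q M).presheaf (homOfLE le_top) x hxV τ).symm.trans h2).trans ((stalkTensorHom_tmul x hxV (one V) e).symm.trans ?_)
      refine congrArg (fun q => stalkTensor x Q M (q ⊗ₜ _)) ?_
      rw [← stalkLin_germ, uni_germ]
    have h3 : (1 - a) • stalkTensor x Q M (stalkLin π x (uni X x) ⊗ₜ M.presheaf.germ V x hxV e) = 0 := by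
      rw [sub_smul, one_smul, ← hτy, h1, sub_self]
    have hu' : IsUnit (1 - a) := IsLocalRing.isUnit_one_sub_self_of_mem_nonunits a hu
    rw [hu'.smul_eq_zero, EmbeddingLike.map_eq_zero_iff] at h3
    exact hq x (Or.inr rfl) (tmul_left_cancel (he.bijective_germ x hxV) h3)
  · intro z hz
    obtain ⟨W, e', hzW, he'⟩ := exists_gen_nhd hM z
    obtain ⟨a, ha, hτy⟩ := key z (M.presheaf.germ W z hzW e') (he'.bijective_germ z hzW)
    rw [ha]
    intro hu
    have hzU : z ∈ U := fun h' => hxZ (Set.mem_singleton_iff.1 h' ▸ hz)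
    have h1 : (tmod Q M).presheaf.germ ⊤ z trivial τ = 0 := by
      have h2 := congrArg ((tmod Q M).presheaf.germ U z hzU) (hτ ⟨false⟩)
      exact ((TopCat.Presheaf.germ_res_apply (tmod Q M).presheaf (homOfLE le_top) z hzU τ).symm.trans h2).trans
        (map_zero _)
    rw [h1] at hτy
    have h3 := hτy.symm
    rw [hu.smul_eq_zero, EmbeddingLike.map_eq_zero_iff] at h3
    exact hq z (Or.inl hz) (tmul_left_cancel (he'.bijective_germ z hzW) h3)

/-- Serre's criterion of ampleness. -/
theorem isAmple_of_vanishing [CompactSpace X] {L : X.Modules} (hL : PicF.IsInvertible L)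
    (h : ∀ (I : X.Modules) (i : I ⟶ Coh.structureModule X), Mono i → Coh.IsQCoh I →
      ∃ n : ℕ, Subsingleton (Coh.HH X (CohB1.tensorMod I (CohB1.tensorPow L (n + 1))) 1)) :
    CohB1.IsAmple L := by
  refine ⟨hL, inferInstance, fun y => ?_⟩
  obtain ⟨x, hxy, hx⟩ := (isClosed_closure (s := ({y} : Set X))).exists_closed_singleton ⟨y, subset_closure rfl⟩
  obtain ⟨_, ⟨W, hW, rfl⟩, hxW, -⟩ :=
    X.isBasis_affineOpens.exists_subset_of_mem_open (Set.mem_univ x) isOpen_univ
  have hZ : IsClosed ((W : Set X)ᶜ) := W.2.isClosed_compl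
  have hxZ : x ∉ ((W : Set X)ᶜ) := fun h => h hxW
  let i := (Scheme.IdealSheafData.vanishingIdeal (⟨(W : Set X)ᶜ ∪ {x}, hZ.union hx⟩ : Closeds X)).subschemeι
  haveI := SerreAff.epi_unitToPush i
  haveI : Coh.IsQCoh ((Scheme.Modules.pushforward i).obj (Coh.structureModule _)) :=
    QCohLib.isQCoh_pushforward _ i
  obtain ⟨n, hn⟩ := h _ (kernel.ι (ClSub.unitToPush i)) inferInstance
    (QCohLib.isQCoh_image (ClSub.unitToPush i) inferInstance inferInstance).1
  obtain ⟨s, hxs, hs⟩ := exists_section (AmpleLib.isInvertible_tensorPow hL (n + 1)) hx hZ hxZ i rfl hn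
  refine ⟨n, s, (specializes_iff_mem_closure.2 hxy).mem_open (CohB1.genLocus _ s).2 hxs, ?_⟩
  have := AmpleLib.isAffineOpen_inf_genLocus (AmpleLib.isInvertible_tensorPow hL (n + 1)) s hW
  rwa [inf_eq_left.2 (show CohB1.genLocus _ s ≤ W from fun z hz => not_not.1 fun hzW => hs z hzW hz)] at this

end Groth.Agent.CurveLib
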