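import Groth.Agent.CurveLib.CurveVanish
import Groth.Agent.CurveLib.SerreAmple

/-!
# Ampleness on proper integral curves
-/

set_option autoImplicit false
set_option backward.isDefEq.respectTransparency false
set_option linter.style.haveILetI false

universe u

open CategoryTheory CategoryTheory.Limits AlgebraicGeometry TopologicalSpace Opposite

noncomputable section

namespace Groth.Agent.CurveLib

variable {X : Scheme.{u}}

theorem not_isAffine_of_dim (k : Type u) [Field k] [X.Over (Spec (CommRingCat.of k))]
    [IsProper (X ↘ Spec (CommRingCat.of k))] [IsIntegral X] (hdim : topologicalKrullDim X = 1) :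
    ¬ IsAffine X := fun _ => by
  have hF := isField_of_universallyClosed (K := k) (X ↘ Spec (CommRingCat.of k))
  letI := hF.toField
  have h : topologicalKrullDim X = topologicalKrullDim (Spec Γ(X, ⊤)) :=
    X.isoSpec.hom.homeomorph.isHomeomorph.topologicalKrullDim_eq
  rw [hdim, show topologicalKrullDim (Spec Γ(X, ⊤)) = topologicalKrullDim (PrimeSpectrum Γ(X, ⊤)) from rfl,
    PrimeSpectrum.topologicalKrullDim_eq_ringKrullDim, ringKrullDim_eq_zero_of_field] at h
  exact one_ne_zero h

variable {k : Type u} [Field k] [X.Over (Spec (CommRingCat.of k))]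
  [IsProper (X ↘ Spec (CommRingCat.of k))] [IsIntegral X] {L : X.Modules}

/-- On a proper integral curve, `L` is ample iff its degree is positive. -/
theorem isAmple_iff_deg_pos (hdim : topologicalKrullDim X = 1) (hL : PicF.IsInvertible L) :
    CohB1.IsAmple L ↔ 0 < Curv2.deg k X L 1 := by
  haveI := EulerIneqLib.isNoetherian_proper (X := X) k
  refine ⟨fun h => ?_, fun hdeg => isAmple_of_vanishing hL fun I i _ hI => ?_⟩
  · obtain ⟨x⟩ := (inferInstance : Nonempty X)
    obtain ⟨n, s, hx, ha⟩ := h.2.2 x
    have hM := AmpleLib.isInvertible_tensorPow hL (n + 1)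
    have hs : s ≠ 0 := fun h0 => by
      have h1 := (AmpleLib.mem_genLocus_iff hM).1 hx
      rw [h0, show AmpleLib.sec (0 : Coh.structureModule X ⟶ CohB1.tensorPow L (n + 1)) = 0 from rfl, map_zero] at h1
      exact zero_ne_one (h1.1 ((smul_zero _).trans (smul_zero _).symm) : (0 : X.presheaf.stalk x) = 1)
    obtain ⟨y, hy⟩ : ∃ y, y ∉ CohB1.genLocus _ s := by
      by_contra hall
      refine not_isAffine_of_dim k hdim ?_
      have e : CohB1.genLocus _ s = ⊤ := eq_top_iff.2 fun y _ => not_not.1 fun h' => hall ⟨y, h'⟩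
      rw [e] at ha
      haveI : IsAffine (⊤ : X.Opens).toScheme := ha
      exact IsAffine.of_isIso X.topIso.inv
    have hpos : 0 < Curv2.deg k X (CohB1.tensorPow L (n + 1)) 1 := by
      obtain ⟨h1, h2⟩ := deg_le_of_ne_zero (k := k) hdim.le ParaFLib.isInvertible_structureModule hM hs
      rw [deg_structureModule] at h1 h2
      refine lt_of_le_of_ne h1 fun he => hy ?_
      haveI := h2 he
      exact TopologicalSpace.Opens.mem_sSup.2 ⟨⊤,
        inferInstanceAs (IsIso ((Scheme.Modules.restrictFunctor (⊤ : X.Opens).ι).map s)), trivial⟩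
    rw [deg_tensorPow (k := k) hdim.le hL] at hpos
    exact (mul_pos_iff_of_pos_left (by positivity)).1 hpos
  · have hIc : Coh.IsCoh I :=
      QCohLib.isCoh_of_mono i (DevLib.isCoh_structureModule X) hI
    obtain ⟨n₀, hn₀⟩ := exists_vanishing (k := k) hdim.le hL hdeg hIc
    exact ⟨n₀, hn₀ _ (Nat.le_succ n₀)⟩

end Groth.Agent.CurveLib
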