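import Groth.Agent.CurveLib.DegTensor

/-!
# Ranks and empty schemes
-/

set_option autoImplicit false
set_option backward.isDefEq.respectTransparency false
set_option linter.style.haveILetI false

universe u

open CategoryTheory CategoryTheory.Limits AlgebraicGeometry TopologicalSpace Opposite
open Groth.Agent.PullbackMod

noncomputable section

namespace Groth.Agent.CurveLib

variable {X : Scheme.{u}}

theorem euler_of_isEmpty {k : Type u} [Field k] [X.Over (Spec (CommRingCat.of k))]
    [IsProper (X ↘ Spec (CommRingCat.of k))] [IsEmpty (X : Type u)] (M : X.Modules) :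
    Curv2.euler k X M = 0 := by
  have hM : IsZero M := DevLib.isZero_of_support_empty (Set.eq_empty_of_forall_notMem fun x _ => IsEmpty.false x)
  have h := fun p => GrothVan.subsingleton_of_isZero (X := X.toPresheafedSpace.carrier)
    ((QCohLib.toAbF X).map_isZero hM) p
  rw [euler_eq_sum (K := k) M 0 fun p _ => h p]
  simp

theorem rank_add {S : ShortComplex X.Modules} (hS : S.ShortExact) {n₁ n₂ n₃ : ℕ}
    (h₁ : FlatMod.IsFinLocFreeOfRank n₁ S.X₁) (h₂ : FlatMod.IsFinLocFreeOfRank n₂ S.X₂)
    (h₃ : FlatMod.IsFinLocFreeOfRank n₃ S.X₃) (x : X) : n₂ = n₁ + n₃ := by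
  obtain ⟨e₁⟩ := freeAt_of_isFinLocFreeOfRank h₁ x
  obtain ⟨e₂⟩ := freeAt_of_isFinLocFreeOfRank h₂ x
  obtain ⟨e₃⟩ := freeAt_of_isFinLocFreeOfRank h₃ x
  haveI := Module.Free.of_equiv e₁.symm
  haveI := Module.Free.of_equiv e₃.symm
  haveI := Module.Finite.equiv e₁.symm
  haveI := Module.Finite.equiv e₃.symm
  obtain ⟨l, hl⟩ := Module.projective_lifting_property (stalkLin S.g x) LinearMap.id (DevLib.stalk_surjective hS x)
  let e := ((DevLib.stalk_exact hS x).splitSurjectiveEquiv (DevLib.stalk_injective hS x) ⟨l, hl⟩).1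
  have h := e.finrank_eq
  rw [Module.finrank_prod, e₁.finrank_eq, e₂.finrank_eq, e₃.finrank_eq, Module.finrank_fin_fun,
    Module.finrank_fin_fun, Module.finrank_fin_fun] at h
  exact h

end Groth.Agent.CurveLib
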