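import Groth.Agent.CurveLib.Components
import Groth.Agent.AmpleEmb.Serre

/-!
# Ampleness is decided on irreducible components
-/

set_option autoImplicit false
set_option backward.isDefEq.respectTransparency false
set_option linter.style.haveILetI false

universe u

open CategoryTheory CategoryTheory.Limits AlgebraicGeometry TopologicalSpace Opposite

noncomputable section

namespace Groth.Agent.CurveLib

variable {X : Scheme.{u}} {A : Type u} [CommRing A] [IsNoetherianRing A]
  (f : X ⟶ Spec (CommRingCat.of A)) [IsProper f]

include f in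
/-- Ampleness on all integral closed subschemes gives ampleness. -/
theorem isAmple_of_integral {L : X.Modules} (hL : PicF.IsInvertible L)
    (h : ∀ (C : Set X) (hC : IsClosed C), IsIrreducible C →
      CohB1.IsAmple ((Scheme.Modules.pullback
        (Scheme.IdealSheafData.vanishingIdeal (⟨C, hC⟩ : Closeds X)).subschemeι).obj L)) :
    CohB1.IsAmple L := by
  haveI : IsLocallyNoetherian X := LocallyOfFiniteType.isLocallyNoetherian f
  haveI : CompactSpace X := QuasiCompact.compactSpace_of_compactSpace f
  haveI : IsNoetherian X := { }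
  have hint : ∀ (C : Set X) (hC : IsClosed C), IsIrreducible C →
      ∀ I : (Scheme.IdealSheafData.vanishingIdeal (⟨C, hC⟩ : Closeds X)).subscheme.Modules, Coh.IsCoh I →
        EvVanish ((Scheme.Modules.pullback
          (Scheme.IdealSheafData.vanishingIdeal (⟨C, hC⟩ : Closeds X)).subschemeι).obj L) I := by
    intro C hC hirr I hI
    obtain ⟨n₀, hn₀⟩ := AmpleEmb.serre_vanishing
      ((Scheme.IdealSheafData.vanishingIdeal (⟨C, hC⟩ : Closeds X)).subschemeι ≫ f) (h C hC hirr) hI
    exact ⟨n₀, fun n hn => hn₀ n hn 1 one_pos⟩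
  refine isAmple_of_vanishing hL fun J j _ hJ => ?_
  obtain ⟨n₀, hn₀⟩ := evVanish_of_integral hL hint (QCohLib.isCoh_of_mono j (DevLib.isCoh_structureModule X) hJ)
  have h1 := hn₀ (n₀ + 1) (Nat.le_succ n₀)
  exact ⟨n₀, h1⟩

include f in
/-- Ampleness is decided on irreducible components. -/
theorem isAmple_iff_components {L : X.Modules} (hL : PicF.IsInvertible L) :
    CohB1.IsAmple L ↔ ∀ Z : Closeds X, (Z : Set X) ∈ irreducibleComponents X →
      CohB1.IsAmple ((Scheme.Modules.pullback (Scheme.IdealSheafData.vanishingIdeal Z).subschemeι).obj L) := by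
  refine ⟨fun h Z _ => AmpleLib.isAmple_pullback _ h, fun h => isAmple_of_integral f hL fun C hC hirr => ?_⟩
  obtain ⟨Z, hZmem, hCZ⟩ := exists_mem_irreducibleComponents_subset_of_isIrreducible C hirr
  let Z' : Closeds X := ⟨Z, isClosed_of_mem_irreducibleComponents Z hZmem⟩
  have hle : Scheme.IdealSheafData.vanishingIdeal Z' ≤
      Scheme.IdealSheafData.vanishingIdeal (⟨C, hC⟩ : Closeds X) :=
    Scheme.IdealSheafData.vanishingIdeal_antimono hCZ
  let g := Scheme.IdealSheafData.inclusion hle
  haveI : IsClosedImmersion g := by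
    have hg : IsClosedImmersion (g ≫ (Scheme.IdealSheafData.vanishingIdeal Z').subschemeι) := by
      rw [Scheme.IdealSheafData.inclusion_subschemeι]
      infer_instance
    exact IsClosedImmersion.of_comp g (Scheme.IdealSheafData.vanishingIdeal Z').subschemeι
  refine AmpleLib.isAmple_of_iso ?_ (AmpleLib.isAmple_pullback g (h Z' hZmem))
  exact (Scheme.Modules.pullbackComp g (Scheme.IdealSheafData.vanishingIdeal Z').subschemeι).app L ≪≫
    eqToIso (congrArg (fun j => (Scheme.Modules.pullback j).obj L) (Scheme.IdealSheafData.inclusion_subschemeι hle))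

end Groth.Agent.CurveLib
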