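import Groth.Agent.CurveLib.SmulPow

/-!
# Vanishing of `H¹` of high twists on a proper integral curve
-/

set_option autoImplicit false
set_option backward.isDefEq.respectTransparency false
set_option linter.style.haveILetI false

universe u

open CategoryTheory CategoryTheory.Limits AlgebraicGeometry TopologicalSpace Opposite
open Groth.Agent.PullbackMod Groth.Agent.DCohLib

noncomputable section

namespace Groth.Agent.CurveLib

variable {X : Scheme.{u}} {k : Type u} [Field k] [X.Over (Spec (CommRingCat.of k))]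
  [IsProper (X ↘ Spec (CommRingCat.of k))] (hdim : topologicalKrullDim X ≤ 1)

include hdim in
/-- A map that is surjective on stalks outside a finite set is surjective on `H¹`. -/
theorem hMap_one_surjective {A B : X.Modules} (f : A ⟶ B) {C : Set X} (hC : IsClosed C)
    (hd : topologicalKrullDim C ≤ 0) (h : ∀ x, x ∉ C → Function.Surjective (stalkLin f x)) :
    Function.Surjective (hMap (k := k) f 1) := by
  haveI := EulerIneqLib.isNoetherian_proper (X := X) k
  let S₁ : ShortComplex X.Modules := ShortComplex.mk (kernel.ι f) (Abelian.factorThruImage f)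
    ((cancel_mono (Abelian.image.ι f)).1 (by rw [Category.assoc, Abelian.image.fac, kernel.condition, zero_comp]))
  have hS₁ : S₁.ShortExact := ShortComplex.ShortExact.mk'
    (ShortComplex.exact_of_f_is_kernel _ (KernelFork.IsLimit.ofι' (kernel.ι f) S₁.zero
      fun g hg => ⟨kernel.lift f g (by rw [← Abelian.image.fac f, ← Category.assoc, hg, zero_comp]),
        kernel.lift_ι _ _ _⟩)) inferInstance inferInstance
  let S₂ : ShortComplex X.Modules := DevLib.cokerSeq (Abelian.image.ι f)
  have hS₂ : S₂.ShortExact := DevLib.cokerSeq_shortExact _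
  haveI h3 : Subsingleton (Coh.HH X S₂.X₃ 1) := by
    refine subsingleton_HH_of_support _ hC (fun x hx => ?_) (d := 0) hd one_pos
    by_contra hxC
    refine hx (DevLib.subsingleton_coker (Abelian.image.ι f) fun z => ?_)
    obtain ⟨w, rfl⟩ := h x hxC z
    refine ⟨stalkLin (Abelian.factorThruImage f) x w, ?_⟩
    rw [← LinearMap.comp_apply, ← stalkLin_comp, Abelian.image.fac]
  haveI hker : Subsingleton (Coh.HH X S₁.X₁ 2) := subsingleton_HH_of_dim _ (d := 1) hdim one_lt_two
  have h1 : Function.Surjective (hMap (k := k) S₁.g 1) := fun y => by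
    have hy : y ∈ LinearMap.ker (hδ (k := k) hS₁ 1) :=
      LinearMap.mem_ker.2 (Subsingleton.elim (α := Coh.HH X S₁.X₁ 2) _ _)
    rw [← range_hMap_g] at hy
    exact hy
  have h2 : Function.Surjective (hMap (k := k) S₂.f 1) := fun y => by
    have hy : y ∈ LinearMap.ker (hMap (k := k) S₂.g 1) :=
      LinearMap.mem_ker.2 (Subsingleton.elim (α := Coh.HH X S₂.X₃ 1) _ _)
    rw [← range_hMap_f hS₂] at hy
    exact hy
  intro y
  obtain ⟨a, rfl⟩ := h2 y
  obtain ⟨b, rfl⟩ := h1 a
  refine ⟨b, ?_⟩
  show Sheaf.H.map _ 1 b = Sheaf.H.map _ 1 (Sheaf.H.map _ 1 b)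
  rw [← Sheaf.H.map_comp_apply, ← Functor.map_comp]
  exact congrArg (fun g => Sheaf.H.map ((QCohLib.toAbF X).map g) 1 b) (Abelian.image.fac f).symm

omit [IsProper (X ↘ Spec (CommRingCat.of k))] in
theorem hMap_bijective_iso {A B : X.Modules} (e : A ≅ B) (p : ℕ) : Function.Bijective (hMap (k := k) e.hom p) := by
  refine Function.bijective_iff_has_inverse.2 ⟨hMap (k := k) e.inv p, fun x => ?_, fun x => ?_⟩
  all_goals
    show Sheaf.H.map _ p (Sheaf.H.map _ p x) = x
    rw [← Sheaf.H.map_comp_apply, ← Functor.map_comp]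
    simp [Sheaf.H.map_id_apply]

variable [IsIntegral X]

include hdim in
/-- Multiplication by a nonzero section is surjective on `H¹`. -/
theorem mulS_surjective (A : X.Modules) {N : X.Modules} (hN : PicF.IsInvertible N)
    {u : Coh.structureModule X ⟶ N} (hu : u ≠ 0) : Function.Surjective (hMap (k := k) (mulS A u) 1) := by
  obtain ⟨-, hC, hd, -, hm⟩ := deg_eq_add_coker (k := k) hdim ParaFLib.isInvertible_structureModule hN hu
  refine hMap_one_surjective hdim _ hC hd fun x hx => ?_
  haveI : Subsingleton ((cokernel u).presheaf.stalk x) := not_not.1 hx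
  have hsu : Function.Surjective (stalkLin u x) := fun z =>
    (DevLib.coker_exact u x z).1 (Subsingleton.elim _ _)
  intro z
  obtain ⟨z, rfl⟩ := (stalkTensor x A N).surjective z
  obtain ⟨w, rfl⟩ := LinearMap.lTensor_surjective (A.presheaf.stalk x) hsu z
  exact ⟨stalkTensor x A _ w, stalkTensor_natural_right x u w⟩

omit [IsProper (X ↘ Spec (CommRingCat.of k))] [IsIntegral X] in
theorem hMap_bijective_finrank {A B : X.Modules} (e : A ≅ B) (p : ℕ) :
    Module.finrank k (Coh.HH X A p) = Module.finrank k (Coh.HH X B p) :=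
  (LinearEquiv.ofBijective _ (hMap_bijective_iso (k := k) e p)).finrank_eq

variable {L : X.Modules}

include hdim in
theorem deg_tensorPow (hL : PicF.IsInvertible L) :
    ∀ n : ℕ, Curv2.deg k X (CohB1.tensorPow L n) 1 = n * Curv2.deg k X L 1
  | 0 => by simp [CohB1.tensorPow, deg_structureModule]
  | n + 1 => by
    show Curv2.deg k X (CohB1.tensorMod (CohB1.tensorPow L n) L) 1 = _
    rw [deg_tensor_add (k := k) hdim (AmpleLib.isInvertible_tensorPow hL n) hL, deg_tensorPow hL n]
    push_cast
    ring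

include hdim in
/-- Powers of a module of positive degree have many sections. -/
theorem exists_h0_gt (hL : PicF.IsInvertible L) (hdeg : 0 < Curv2.deg k X L 1) (B : ℕ) :
    ∃ J : ℕ, ∀ j, J ≤ j → B < Module.finrank k (Coh.HH X (CohB1.tensorPow L j) 0) := by
  refine ⟨((B : ℤ) - Curv2.euler k X (Coh.structureModule X) + 1).toNat, fun j hj => ?_⟩
  have h1 := deg_tensorPow (k := k) hdim hL j
  have h2 := euler_eq_sub (k := k) (M := CohB1.tensorPow L j) hdim
  rw [show Curv2.deg k X (CohB1.tensorPow L j) 1 =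
    Curv2.euler k X (CohB1.tensorPow L j) - (1 : ℕ) * Curv2.euler k X (Coh.structureModule X) from rfl] at h1
  have h3 : (j : ℤ) ≤ j * Curv2.deg k X L 1 := le_mul_of_one_le_right (by positivity) hdeg
  omega

include hdim in
/-- `H¹(M ⊗ L^n) = 0` for `n` large when `deg L > 0`. -/
theorem exists_vanishing (hL : PicF.IsInvertible L) (hdeg : 0 < Curv2.deg k X L 1) {M : X.Modules}
    (hM : Coh.IsCoh M) :
    ∃ n₀ : ℕ, ∀ n, n₀ ≤ n → Subsingleton (Coh.HH X (CohB1.tensorMod M (CohB1.tensorPow L n)) 1) := by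
  haveI := EulerIneqLib.isNoetherian_proper (X := X) k
  let A := fun n => CohB1.tensorMod M (CohB1.tensorPow L n)
  have hA : ∀ n, Coh.IsCoh (A n) := fun n =>
    isCoh_tmod hM (isCoh_of_isInvertible (AmpleLib.isInvertible_tensorPow hL n))
  haveI : ∀ n, Module.Finite k (Coh.HH X (A n) 1) := fun n => EulerIneqLib.finite_HH (k := k) (hA n) 1
  let d := fun n => Module.finrank k (Coh.HH X (A n) 1)
  let N := fun j => CohB1.tensorPow L j
  have e : ∀ n j, tmod (A n) (N j) ≅ A (n + j) := fun n j =>
    AmpleLib.assoc _ _ _ ≪≫ AmpleLib.tIso (Iso.refl M) (AmpleLib.powAdd L n j).symm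
  have step : ∀ n j (c : Coh.HH X (N j) 0), c ≠ 0 →
      Function.Surjective (mulH (k := k) (A n) (N j) 1 c) := fun n j c hc =>
    mulS_surjective hdim (A n) (AmpleLib.isInvertible_tensorPow hL j) (secHom_secOf_ne_zero (N j) hc)
  obtain ⟨n₀, hn₀⟩ : ∃ n₀, ∀ n, d n₀ ≤ d n :=
    ⟨Function.argmin d, fun n => Function.argmin_le d n⟩
  obtain ⟨J, hJ⟩ := exists_h0_gt hdim hL hdeg 0
  have hconst : ∀ j, J ≤ j → d (n₀ + j) = d n₀ := fun j hj => by
    refine le_antisymm ?_ (hn₀ _)
    haveI := EulerIneqLib.finite_HH (k := k) (isCoh_of_isInvertible (AmpleLib.isInvertible_tensorPow hL j)) 0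
    haveI : Nontrivial (Coh.HH X (N j) 0) := Module.nontrivial_of_finrank_pos (R := k) (hJ j hj)
    obtain ⟨c, hc⟩ := exists_ne (0 : Coh.HH X (N j) 0)
    haveI : Module.Finite k (Coh.HH X (tmod (A n₀) (Coh.structureModule X)) 1) :=
      Module.Finite.equiv (LinearEquiv.ofBijective _ (hMap_bijective_iso (k := k) (AmpleLib.unitR (A n₀)) 1)).symm
    have h := LinearMap.finrank_le_finrank_of_surjective (f := mulH (k := k) (A n₀) (N j) 1 c) (step n₀ j c hc)
    exact ((hMap_bijective_finrank (k := k) (e n₀ j) 1).symm.trans_le h).trans_eq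
      (hMap_bijective_finrank (k := k) (AmpleLib.unitR (A n₀)) 1)
  suffices h0 : d n₀ = 0 by
    refine ⟨n₀ + J, fun n hn => ?_⟩
    obtain ⟨j, rfl⟩ := Nat.exists_eq_add_of_le hn
    refine (Module.finrank_eq_zero_iff_of_free k _).1 ?_
    rw [add_assoc, ← h0]
    exact hconst (J + j) (Nat.le_add_right J j)
  obtain ⟨J', hJ'⟩ := exists_h0_gt hdim hL hdeg (d n₀ * d n₀)
  let j := max J J'
  let T := tmod (A n₀) (Coh.structureModule X)
  let T' := tmod (A n₀) (N j)
  have hT : Module.finrank k (Coh.HH X T 1) = d n₀ := hMap_bijective_finrank (k := k) (AmpleLib.unitR (A n₀)) 1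
  have hT' : Module.finrank k (Coh.HH X T' 1) = d n₀ :=
    (hMap_bijective_finrank (k := k) (e n₀ j) 1).trans (hconst j (le_max_left _ _))
  haveI : Module.Finite k (Coh.HH X T 1) :=
    Module.Finite.equiv (LinearEquiv.ofBijective _ (hMap_bijective_iso (k := k) (AmpleLib.unitR (A n₀)) 1)).symm
  haveI : Module.Finite k (Coh.HH X T' 1) :=
    Module.Finite.equiv (LinearEquiv.ofBijective _ (hMap_bijective_iso (k := k) (e n₀ j) 1)).symm
  haveI := EulerIneqLib.finite_HH (k := k) (isCoh_of_isInvertible (AmpleLib.isInvertible_tensorPow hL j)) 0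
  have hker : LinearMap.ker (mulH (k := k) (A n₀) (N j) 1) ≠ ⊥ := fun hbot => by
    have h := LinearMap.finrank_le_finrank_of_injective (LinearMap.ker_eq_bot.1 hbot)
    rw [Module.finrank_linearMap, hT, hT'] at h
    exact absurd h (not_le.2 (hJ' j (le_max_right _ _)))
  obtain ⟨c, hc, hc0⟩ := Submodule.exists_mem_ne_zero_of_ne_bot hker
  haveI : Subsingleton (Coh.HH X T' 1) := subsingleton_of_forall_eq 0 fun y => by
    obtain ⟨x, rfl⟩ := step n₀ j c hc0 y
    rw [LinearMap.mem_ker.1 hc]
    rfl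
  rw [← hT']
  exact Module.finrank_zero_of_subsingleton

end Groth.Agent.CurveLib
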