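import Groth.Agent.CurveLib.Euler
import Groth.Agent.RpushLib.Stalk
import Groth.Agent.RpushLib.ToAb
import Groth.Agent.FormalLib.Main
import Groth.Agent.BCLib.TensorFun
import Groth.Agent.PullbackMod.Flat

/-!
# Vanishing of higher direct images above the fibre dimension
-/

set_option autoImplicit false
set_option backward.isDefEq.respectTransparency false
set_option linter.style.haveILetI false

universe u

open CategoryTheory CategoryTheory.Limits AlgebraicGeometry TopologicalSpace Opposite
open Groth.Agent.PullbackMod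

noncomputable section

namespace Groth.Agent.CurveLib

variable {R : Type u} [CommRing R] [IsLocalRing R] {X : Scheme.{u}} [X.Over (Spec (CommRingCat.of R))]

/-- `M / 𝔪^n M` lives over the closed point. -/
theorem support_modPow_subset (M : X.Modules) (n : ℕ) :
    CohB1.support (Formal.modPow (IsLocalRing.maximalIdeal R) n M) ⊆
      (X ↘ Spec (CommRingCat.of R)).base ⁻¹' {IsLocalRing.closedPoint R} := by
  intro x hx
  by_contra hne
  apply hx
  let f := X ↘ Spec (CommRingCat.of R)
  obtain ⟨a, ha, hax⟩ : ∃ a ∈ IsLocalRing.maximalIdeal R, a ∉ (f.base x).asIdeal := by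
    by_contra hc
    push Not at hc
    exact hne (PrimeSpectrum.ext
      ((IsLocalRing.maximalIdeal.isMaximal R).eq_of_le (f.base x).2.ne_top hc).symm)
  let r := Coh.toGlobal f (a ^ n)
  have hu : IsUnit (X.presheaf.germ ⊤ x trivial r) := by
    rw [← Scheme.mem_basicOpen X r x trivial]
    show x ∈ X.basicOpen (f.appTop ((Scheme.ΓSpecIso (CommRingCat.of R)).inv (a ^ n)))
    rw [← Scheme.preimage_basicOpen_top, basicOpen_eq_of_affine', ← CategoryTheory.ConcreteCategory.comp_apply,
      Iso.inv_hom_id]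
    show a ^ n ∉ (f.base x).asIdeal
    exact fun h => hax ((f.base x).2.mem_of_pow_mem n h)
  let π := Formal.modPowπ (IsLocalRing.maximalIdeal R) n M
  have h0 : Formal.smulModΓ M r ≫ π = 0 := by
    have h := congrArg (fun φ => Sigma.ι (fun _ : (IsLocalRing.maximalIdeal R ^ n : Ideal R) => M)
      ⟨a ^ n, Ideal.pow_mem_pow ha n⟩ ≫ φ)
      (cokernel.condition (Formal.smulFamily ((IsLocalRing.maximalIdeal R) ^ n) M))
    simp only [Formal.smulFamily, comp_zero, Sigma.ι_desc_assoc] at h
    exact h
  haveI : Epi π := inferInstanceAs (Epi (cokernel.π _))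
  refine subsingleton_of_forall_eq 0 fun z => ?_
  obtain ⟨w, rfl⟩ := (epi_iff_stalk π).1 inferInstance x z
  obtain ⟨v, hv⟩ := hu
  have hw : w = stalkLin (Formal.smulModΓ M r) x ((↑v⁻¹ : X.presheaf.stalk x) • w) := by
    rw [BCLib.stalkLin_smulModΓ, ← mul_smul, ← hv, Units.mul_inv, one_smul]
  rw [hw, ← LinearMap.comp_apply, ← stalkLin_comp, h0, (eq_zero_iff_stalk _).1 rfl x]
  rfl

variable [IsNoetherianRing R] [IsProper (X ↘ Spec (CommRingCat.of R))]

/-- Vanishing above the dimension of the closed fibre. -/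
theorem subsingleton_HH_of_closedFibre {M : X.Modules} (hM : Coh.IsCoh M) {d : ℕ}
    (hd : topologicalKrullDim ((X ↘ Spec (CommRingCat.of R)).base ⁻¹' {IsLocalRing.closedPoint R}) ≤ d)
    {p : ℕ} (hp : d < p) : Subsingleton (Coh.HH X M p) := by
  haveI : IsLocallyNoetherian X := LocallyOfFiniteType.isLocallyNoetherian (X ↘ Spec (CommRingCat.of R))
  haveI : CompactSpace X := QuasiCompact.compactSpace_of_compactSpace (X ↘ Spec (CommRingCat.of R))
  haveI : IsNoetherian X := ⟨⟩
  haveI : Module.Finite R (Coh.HH X M p) :=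
    ProperFin.allFin_of_isCoh (A := R) (X ↘ Spec (CommRingCat.of R)) M hM p
  have hC : IsClosed ((X ↘ Spec (CommRingCat.of R)).base ⁻¹' {IsLocalRing.closedPoint R}) :=
    ((PrimeSpectrum.isClosed_singleton_iff_isMaximal _).2 (IsLocalRing.maximalIdeal.isMaximal R)).preimage
      (X ↘ Spec (CommRingCat.of R)).continuous
  haveI : ∀ n, Subsingleton (Formal.HHmodPow (IsLocalRing.maximalIdeal R) M p n) := fun n =>
    subsingleton_HH_of_support _ hC (support_modPow_subset M (n + 1)) hd hp
  obtain ⟨Ψ, hΨ, -⟩ := FormalLib.exists_comparison (IsLocalRing.maximalIdeal R) hM p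
  haveI : Subsingleton (AdicCompletion (IsLocalRing.maximalIdeal R) (Coh.HH X M p)) :=
    ⟨fun x y => hΨ.1 (Subtype.ext (funext fun n => Subsingleton.elim _ _))⟩
  refine subsingleton_of_forall_eq 0 fun x => ?_
  refine IsHausdorff.haus (I := IsLocalRing.maximalIdeal R) inferInstance x fun n => ?_
  have h := congrArg (fun z : AdicCompletion (IsLocalRing.maximalIdeal R) (Coh.HH X M p) => z.val n)
    (Subsingleton.elim (AdicCompletion.of (IsLocalRing.maximalIdeal R) (Coh.HH X M p) x) 0)
  simp only [AdicCompletion.of_apply, AdicCompletion.val_zero_apply] at h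
  rw [SModEq.zero]
  exact (Submodule.Quotient.mk_eq_zero _).1 h

omit [IsLocalRing R] [IsNoetherianRing R] in
/-- Stalks of higher direct images of coherent modules above the fibre dimension. -/
theorem isZero_stalk_rpush {X Y : Scheme.{u}} (f : X ⟶ Y) [IsProper f] [IsLocallyNoetherian Y] (y : Y) (d : ℕ)
    (hd : topologicalKrullDim ↥(f.fiber y) ≤ d) (M : X.Modules) (hM : Coh.IsCoh M) (p : ℕ) (hp : d < p) :
    IsZero (TopCat.Presheaf.stalk ((Coh.RpushAb f p).obj (Coh.toAb M)).obj y) := by
  haveI := hM.1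
  let X₁ := pullback f (Y.fromSpecStalk y)
  letI : X₁.Over (Spec (CommRingCat.of (Y.presheaf.stalk y))) := ⟨pullback.snd f (Y.fromSpecStalk y)⟩
  let g : X₁ ⟶ X := pullback.fst f (Y.fromSpecStalk y)
  have hsq : IsPullback g (X₁ ↘ Spec (CommRingCat.of (Y.presheaf.stalk y))) f (Y.fromSpecStalk y) :=
    IsPullback.of_hasPullback f (Y.fromSpecStalk y)
  haveI : IsProper (X₁ ↘ Spec (CommRingCat.of (Y.presheaf.stalk y))) :=
    MorphismProperty.of_isPullback (P := @IsProper) hsq ‹IsProper f›
  haveI : IsPreimmersion g := MorphismProperty.of_isPullback (P := @IsPreimmersion) hsq.flip inferInstance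
  haveI : CategoryTheory.HasInjectiveResolutions X.Modules := inferInstance
  obtain ⟨e⟩ := RpushLib.nonempty_stalk_equiv f M y p X₁ g hsq
  have hG := PullbackMod.isCoh_pullback g M hM
  let C := (X₁ ↘ Spec (CommRingCat.of (Y.presheaf.stalk y))).base ⁻¹' {IsLocalRing.closedPoint (Y.presheaf.stalk y)}
  have hmap : ∀ x ∈ C, g x ∈ f ⁻¹' {y} := fun x hx => by
    show f (g x) = y
    rw [← Scheme.Hom.comp_apply, hsq.w, Scheme.Hom.comp_apply, show (X₁ ↘ _) x = _ from hx]
    exact Scheme.fromSpecStalk_closedPoint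
  have hdim : topologicalKrullDim C ≤ d := by
    refine le_trans ?_ ((IsHomeomorph.topologicalKrullDim_eq _ (f.fiberHomeo y).isHomeomorph).symm.le.trans hd)
    let ι : C → f ⁻¹' {y} := fun x => ⟨g x.1, hmap x.1 x.2⟩
    refine Topology.IsInducing.topologicalKrullDim_le (f := ι) ?_
    exact Topology.IsInducing.of_comp (by fun_prop) continuous_subtype_val
      (g.isEmbedding.isInducing.comp Topology.IsInducing.subtypeVal)
  haveI := subsingleton_HH_of_closedFibre (R := Y.presheaf.stalk y) hG hdim hp
  haveI : Subsingleton (((Coh.Rpush f p).obj M).presheaf.stalk y) := e.toEquiv.subsingleton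
  refine IsZero.of_iso ?_ ((TopCat.Presheaf.stalkFunctor AddCommGrpCat.{u} y).mapIso
    ((sheafToPresheaf _ _).mapIso ((RpushLib.toAbRpushIso f p).app M))).symm
  exact AddCommGrpCat.isZero_of_subsingleton (((Coh.Rpush f p).obj M).presheaf.stalk y)

end Groth.Agent.CurveLib
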