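import Groth.Agent.CurveLib.Euler
import Groth.Agent.CurveLib.Finite
import Groth.Agent.DevLib.Sub
import Groth.Agent.PullbackMod.SuppClosed

/-!
# Euler characteristic of modules supported in dimension zero, by stalks
-/

set_option autoImplicit false
set_option backward.isDefEq.respectTransparency false
set_option linter.style.haveILetI false

universe u

open CategoryTheory CategoryTheory.Limits AlgebraicGeometry TopologicalSpace Opposite
open Groth.Agent.PullbackMod Groth.Agent.CohBase

noncomputable section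

namespace Groth.Agent.CurveLib

variable (k : Type u) [Field k] {X : Scheme.{u}} [X.Over (Spec (CommRingCat.of k))]

/-- A stalk, over the base field. -/
@[nolint unusedArguments]
def KStalk (_k : Type u) {Y : Scheme.{u}} (M : Y.Modules) (x : Y) : Type u := M.presheaf.stalk x

instance (M : X.Modules) (x : X) : AddCommGroup (KStalk k M x) :=
  inferInstanceAs (AddCommGroup (M.presheaf.stalk x))

instance (M : X.Modules) (x : X) : Module k (KStalk k M x) :=
  Module.compHom (M.presheaf.stalk x)
    ((X.presheaf.germ ⊤ x trivial).hom.comp (Coh.toGlobal (X ↘ Spec (CommRingCat.of k))))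

variable {k}

/-- An `𝒪_x`-linear equivalence is linear over the base field. -/
def kPiEquiv {M N : X.Modules} {x : X} {n : ℕ}
    (e : M.presheaf.stalk x ≃ₗ[X.presheaf.stalk x] (Fin n → N.presheaf.stalk x)) :
    KStalk k M x ≃ₗ[k] (Fin n → KStalk k N x) :=
  { e.toAddEquiv with map_smul' := fun c v => e.map_smul _ v }

variable [IsProper (X ↘ Spec (CommRingCat.of k))] {Q : X.Modules} {C : Set X}

/-- All germs at points of `C`, over the base field. -/
theorem exists_equiv_pi (hC : IsClosed C) (hQ : CohB1.support Q ⊆ C) (hd : topologicalKrullDim C ≤ 0) :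
    Nonempty (Coh.HH X Q 0 ≃ₗ[k] ((x : C) → KStalk k Q x.1)) := by
  haveI := EulerIneqLib.isNoetherian_proper (X := X) k
  haveI : Fintype C := (finite_of_dim_le_zero hC hd).fintype
  let F : TopCat.Sheaf AddCommGrpCat.{u} X := ⟨Q.presheaf, Q.isSheaf⟩
  let e₀ : Coh.HH X Q 0 ≃+ Γ(Q, ⊤) := (HHEquiv Q 0).trans (H0Equiv (⊤ : X.Opens) (Coh.toAb Q))
  let f : Coh.HH X Q 0 →ₗ[k] ((x : C) → KStalk k Q x.1) :=
    { toFun := fun c x => Q.presheaf.germ ⊤ x.1 trivial (e₀ c)
      map_add' := fun a b => funext fun x => by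
        show Q.presheaf.germ ⊤ x.1 trivial (e₀ (a + b)) = _
        rw [map_add, map_add]
        rfl
      map_smul' := fun r c => funext fun x => by
        have h : e₀ (r • c) = (show Γ(X, ⊤) from Coh.toGlobal (X ↘ Spec (CommRingCat.of k)) r) • e₀ c := by
          show H0Equiv (⊤ : X.Opens) (Coh.toAb Q) (HEquiv _ 0 (Sheaf.H.map (Coh.smulAb Q _) 0 c)) = _
          rw [HEquiv_map, H0Equiv_hmap, Coh.smulAb_app]
          exact congrArg (fun a : Γ(X, ⊤) => a • e₀ c) (ConcreteCategory.congr_hom (X.presheaf.map_id _) _)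
        show Q.presheaf.germ ⊤ x.1 trivial (e₀ (r • c)) = _
        rw [h]
        exact PresheafOfModules.germ_smul (R := X.presheaf) Q.val x.1 ⊤ trivial _ _ }
  refine ⟨LinearEquiv.ofBijective f ⟨(injective_iff_map_eq_zero f).2 fun c hc => ?_, fun z => ?_⟩⟩
  · refine e₀.injective (TopCat.Presheaf.section_ext F ⊤ _ _ fun y hy => ?_)
    rw [map_zero, map_zero]
    by_cases hyC : y ∈ C
    · exact congrFun hc ⟨y, hyC⟩
    · haveI : Subsingleton (Q.presheaf.stalk y) := not_not.1 fun h => hyC (hQ h)
      exact Subsingleton.elim _ _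
  · classical
    -- a global section with the given germ at `x` and zero elsewhere
    have key : ∀ x : C, ∃ s : Γ(Q, ⊤), Q.presheaf.germ ⊤ x.1 trivial s = z x ∧
        ∀ y : C, y ≠ x → Q.presheaf.germ ⊤ y.1 trivial s = 0 := fun x => by
      obtain ⟨s, hs, hs'⟩ := exists_global_germ' hC hd Q hQ x.1 (z x)
      exact ⟨s, hs, fun y hy => hs' y.1 fun h => hy (Subtype.ext h)⟩
    choose s hs hs' using key
    refine ⟨e₀.symm (∑ x, s x), funext fun y => ?_⟩
    show Q.presheaf.germ ⊤ y.1 trivial (e₀ (e₀.symm _)) = _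
    rw [AddEquiv.apply_symm_apply, map_sum, Finset.sum_eq_single y (fun x _ hxy => hs' x y hxy.symm)
      (fun h => absurd (Finset.mem_univ y) h), hs]

/-- `χ(Q') = n χ(Q)` if all stalks of `Q'` are `n`-th powers of those of `Q`. -/
theorem euler_eq_mul {Q' : X.Modules} (hQc : Coh.IsCoh Q) (hQc' : Coh.IsCoh Q') (hC : IsClosed C)
    (hQ : CohB1.support Q ⊆ C) (hd : topologicalKrullDim C ≤ 0) (n : ℕ)
    (h : ∀ x, Nonempty (Q'.presheaf.stalk x ≃ₗ[X.presheaf.stalk x] (Fin n → Q.presheaf.stalk x))) :
    Curv2.euler k X Q' = n * Curv2.euler k X Q := by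
  haveI := EulerIneqLib.isNoetherian_proper (X := X) k
  have hQ' : CohB1.support Q' ⊆ C := fun x hx => by
    by_contra hxC
    haveI : Subsingleton (Q.presheaf.stalk x) := not_not.1 fun hh => hxC (hQ hh)
    exact hx (h x).some.toEquiv.subsingleton
  have e1 : ∀ {R : X.Modules}, CohB1.support R ⊆ C →
      Curv2.euler k X R = Module.finrank k (Coh.HH X R 0) := fun {R} hR => by
    rw [euler_eq_sum (K := k) R 1 fun p hp => subsingleton_HH_of_support R hC hR (d := 0) hd hp]
    simp
  obtain ⟨a⟩ := exists_equiv_pi (k := k) hC hQ hd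
  obtain ⟨a'⟩ := exists_equiv_pi (k := k) hC hQ' hd
  haveI : Fintype C := (finite_of_dim_le_zero hC hd).fintype
  haveI := EulerIneqLib.finite_HH (k := k) hQc 0
  haveI : ∀ x : C, Module.Finite k (KStalk k Q x.1) := fun x =>
    Module.Finite.of_surjective ((LinearMap.proj x).comp a.toLinearMap) fun v => by
      classical
      exact ⟨a.symm (Pi.single x v), by
        simp only [LinearMap.comp_apply, LinearEquiv.coe_coe, LinearEquiv.apply_symm_apply, LinearMap.proj_apply,
          Pi.single_eq_same]⟩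
  rw [e1 hQ, e1 hQ', a.finrank_eq, a'.finrank_eq,
    (LinearEquiv.piCongrRight fun x : C => kPiEquiv (k := k) (h x.1).some).finrank_eq,
    Module.finrank_pi_fintype, Module.finrank_pi_fintype]
  simp only [Module.finrank_pi_fintype, Finset.sum_const, Finset.card_univ, Fintype.card_fin, smul_eq_mul,
    ← Finset.mul_sum]
  push_cast
  rfl

end Groth.Agent.CurveLib
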