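import Groth.Agent.CurveLib.TensorDeg
import Groth.Agent.DevLib.Power

/-!
# A common submodule of the structure sheaf and an invertible module
-/

set_option autoImplicit false
set_option backward.isDefEq.respectTransparency false
set_option linter.style.haveILetI false

universe u

open CategoryTheory CategoryTheory.Limits AlgebraicGeometry TopologicalSpace Opposite
open Groth.Agent.PullbackMod Groth.Agent.DCohLib

noncomputable section

namespace Groth.Agent.CurveLib

variable {X : Scheme.{u}} [IsIntegral X]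

/-- Sections are determined by their germ at the generic point. -/
def SepGen (M : X.Modules) : Prop :=
  ∀ (O : X.Opens) (σ : Γ(M, O)), (∀ hη : genericPoint X ∈ O, M.presheaf.germ O (genericPoint X) hη σ = 0) → σ = 0

theorem mono_of_generic_injective {M N : X.Modules} (hM : SepGen M) (φ : M ⟶ N)
    (h : Function.Injective (stalkLin φ (genericPoint X))) : Mono φ := by
  refine (mono_iff_stalk φ).2 fun x => (injective_iff_map_eq_zero _).2 fun z hz => ?_
  obtain ⟨U, hx, σ, rfl⟩ := TopCat.Presheaf.exists_germ_eq M.presheaf z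
  rw [stalkLin_germ] at hz
  obtain ⟨V, hxV, i, i', e⟩ := TopCat.Presheaf.germ_eq N.presheaf x hx hx _ 0 (hz.trans (map_zero _).symm)
  rw [map_zero] at e
  rw [← TopCat.Presheaf.germ_res_apply M.presheaf i x hxV]
  have : M.presheaf.map i.op σ = 0 := hM _ _ fun hη => h (by
    rw [stalkLin_germ, map_zero]
    refine (congrArg (N.presheaf.germ V _ hη) ?_).trans (map_zero _)
    exact (NatTrans.naturality_apply φ.mapPresheaf i.op σ).trans e)
  rw [this, map_zero]

omit [IsIntegral X] in
theorem maximalIdeal_eq_bot {R : Type u} [CommRing R] [IsLocalRing R] (h : IsField R) {a : R}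
    (ha : a ∈ IsLocalRing.maximalIdeal R) : a = 0 := by
  letI := h.toField
  by_contra hne
  exact (IsLocalRing.mem_maximalIdeal _).1 ha (isUnit_iff_ne_zero.2 hne)

variable {L : X.Modules}

/-- An invertible module and the structure sheaf contain a common coherent module, generically equal to both. -/
theorem exists_frac [IsLocallyNoetherian X] (hL : PicF.IsInvertible L) :
    ∃ (I : X.Modules) (p : I ⟶ Coh.structureModule X) (q : I ⟶ L), Coh.IsCoh I ∧ Mono p ∧ Mono q ∧
      Function.Surjective (stalkLin p (genericPoint X)) ∧ Function.Surjective (stalkLin q (genericPoint X)) := by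
  let η := genericPoint X
  let O₁ := Coh.structureModule X
  have hO : PicF.IsInvertible O₁ := ParaFLib.isInvertible_structureModule
  obtain ⟨e, he⟩ := ParaFLib.exists_stalk_gen hL η
  let γ : O₁.presheaf.stalk η ≃ₗ[X.presheaf.stalk η] L.presheaf.stalk η :=
    (LinearEquiv.ofBijective (LinearMap.toSpanSingleton _ _ (ParaFLib.oneG η)) (ParaFLib.bijective_oneG η)).symm ≪≫ₗ
      LinearEquiv.ofBijective (LinearMap.toSpanSingleton _ _ e) he
  let P : X.Modules := O₁ ⊞ L
  let s₁ := stalkLin (biprod.fst : P ⟶ O₁) η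
  let s₂ := stalkLin (biprod.snd : P ⟶ L) η
  let S : Submodule (X.presheaf.stalk η) (P.presheaf.stalk η) := LinearMap.ker (γ.toLinearMap.comp s₁ - s₂)
  have hS : DevLib.Absorbs S := fun a ha z => ⟨1, by
    rw [maximalIdeal_eq_bot (Field.toIsField X.functionField) ha]
    simp⟩
  have hP : Coh.IsCoh P := DevLib.isCoh_biprod (isCoh_of_isInvertible hO) (isCoh_of_isInvertible hL)
  have hI : Coh.IsCoh (DevLib.subAt S) := DevLib.isCoh_subAt hP hS
  let p : DevLib.subAt S ⟶ O₁ := DevLib.subAtι S ≫ biprod.fst
  let q : DevLib.subAt S ⟶ L := DevLib.subAtι S ≫ biprod.snd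
  have total : ∀ z : P.presheaf.stalk η,
      stalkLin (biprod.inl : O₁ ⟶ P) η (s₁ z) + stalkLin (biprod.inr : L ⟶ P) η (s₂ z) = z := fun z => by
    have h := congrArg (fun φ => stalkLin φ η z) (biprod.total : _ = 𝟙 P)
    rw [DevLib.stalkLin_add, stalkLin_comp, stalkLin_comp, stalkLin_id] at h
    exact h
  have hsep : SepGen (DevLib.subAt S) := fun U t ht => by
    refine DevLib.subAtι_app_injective S U ?_
    rw [map_zero]
    have hz : ∀ hη : η ∈ U, P.presheaf.germ U η hη ((DevLib.subAtι S).app U t) = 0 := fun hη => by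
      rw [← stalkLin_germ, ht hη, map_zero]
    have h1 : (biprod.fst : P ⟶ O₁).app U ((DevLib.subAtι S).app U t) = 0 :=
      ParaFLib.eq_zero_of_germ_generic hO _ fun hη => by rw [← stalkLin_germ, hz hη, map_zero]
    have h2 : (biprod.snd : P ⟶ L).app U ((DevLib.subAtι S).app U t) = 0 :=
      ParaFLib.eq_zero_of_germ_generic hL _ fun hη => by rw [← stalkLin_germ, hz hη, map_zero]
    have h := congrArg (fun φ : P ⟶ P => φ.app U ((DevLib.subAtι S).app U t)) (biprod.total : _ = 𝟙 P)
    simp only [Scheme.Modules.Hom.add_app, Scheme.Modules.Hom.comp_app, Scheme.Modules.Hom.id_app] at h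
    change (biprod.inl : O₁ ⟶ P).app U ((biprod.fst : P ⟶ O₁).app U _) +
      (biprod.inr : L ⟶ P).app U ((biprod.snd : P ⟶ L).app U _) = _ at h
    rw [h1, h2, map_zero, map_zero, add_zero] at h
    exact h.symm
  have hmem : ∀ z, z ∈ S ↔ γ (s₁ z) = s₂ z := fun z => by
    simp only [S, LinearMap.mem_ker, LinearMap.sub_apply, sub_eq_zero]
    exact Iff.rfl
  have hι := DevLib.range_stalk_subAtι S
  have hp : Function.Bijective (stalkLin p η) := by
    rw [stalkLin_comp]
    refine ⟨(injective_iff_map_eq_zero _).2 fun w hw => DevLib.injective_stalk_subAtι S η ?_, fun a => ?_⟩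
    · have hz := (hmem _).1 (hι.le ⟨w, rfl⟩)
      change s₁ (stalkLin (DevLib.subAtι S) η w) = 0 at hw
      rw [hw, map_zero] at hz
      rw [← total (stalkLin (DevLib.subAtι S) η w), hw, ← hz, map_zero, map_zero, add_zero, map_zero]
    · have h11 : ∀ b, s₁ (stalkLin (biprod.inl : O₁ ⟶ P) η b) = b := fun b => by
        have h := congrArg (fun φ => stalkLin φ η b) (biprod.inl_fst : (biprod.inl : O₁ ⟶ P) ≫ _ = _)
        rw [stalkLin_comp, stalkLin_id] at h
        exact h
      have h12 : ∀ b, s₂ (stalkLin (biprod.inl : O₁ ⟶ P) η b) = 0 := fun b => by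
        have h := congrArg (fun φ => stalkLin φ η b) (biprod.inl_snd : (biprod.inl : O₁ ⟶ P) ≫ (biprod.snd : P ⟶ L) = _)
        rw [stalkLin_comp, DevLib.stalkLin_zero] at h
        exact h
      have h21 : ∀ b, s₁ (stalkLin (biprod.inr : L ⟶ P) η b) = 0 := fun b => by
        have h := congrArg (fun φ => stalkLin φ η b) (biprod.inr_fst : (biprod.inr : L ⟶ P) ≫ (biprod.fst : P ⟶ O₁) = _)
        rw [stalkLin_comp, DevLib.stalkLin_zero] at h
        exact h
      have h22 : ∀ b, s₂ (stalkLin (biprod.inr : L ⟶ P) η b) = b := fun b => by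
        have h := congrArg (fun φ => stalkLin φ η b) (biprod.inr_snd : (biprod.inr : L ⟶ P) ≫ _ = _)
        rw [stalkLin_comp, stalkLin_id] at h
        exact h
      obtain ⟨w, hw⟩ := hι.ge ((hmem (stalkLin (biprod.inl : O₁ ⟶ P) η a + stalkLin (biprod.inr : L ⟶ P) η (γ a))).2 (by
        simp only [map_add, h11, h12, h21, h22, add_zero, zero_add]))
      refine ⟨w, ?_⟩
      show s₁ (stalkLin (DevLib.subAtι S) η w) = a
      rw [hw, map_add, h11, h21, add_zero]
  have hq : Function.Bijective (stalkLin q η) := by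
    have : (fun w => stalkLin q η w) = fun w => γ (stalkLin p η w) := funext fun w => by
      rw [stalkLin_comp, stalkLin_comp]
      exact ((hmem _).1 (hι.le ⟨w, rfl⟩)).symm
    show Function.Bijective fun w => stalkLin q η w
    rw [this]
    exact γ.bijective.comp hp
  exact ⟨_, p, q, hI, mono_of_generic_injective hsep p hp.1, mono_of_generic_injective hsep q hq.1, hp.2, hq.2⟩

variable {k : Type u} [Field k] [X.Over (Spec (CommRingCat.of k))] [IsProper (X ↘ Spec (CommRingCat.of k))]
  (hdim : topologicalKrullDim X ≤ 1)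

include hdim in
/-- `χ(L ⊗ E) = χ(O ⊗ E) + n deg L`. -/
theorem euler_tmod_invertible (hL : PicF.IsInvertible L) {E : X.Modules} {n : ℕ}
    (hE : FlatMod.IsFinLocFreeOfRank n E) :
    Curv2.euler k X (tmod L E) = Curv2.euler k X (tmod (Coh.structureModule X) E) + n * Curv2.deg k X L 1 := by
  haveI := EulerIneqLib.isNoetherian_proper (X := X) k
  obtain ⟨I, p, q, hI, hp, hq, hps, hqs⟩ := exists_frac hL
  have hEc : Coh.IsCoh E := isCoh_of_isFinLocFree fun y => by
    obtain ⟨V, hy, he⟩ := hE y
    exact ⟨V, n, hy, he⟩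
  have hfree := freeAt_of_isFinLocFreeOfRank hE
  have key : ∀ {M : X.Modules} (f : I ⟶ M) [Mono f], Coh.IsCoh M →
      Function.Surjective (stalkLin f (genericPoint X)) →
      Curv2.euler k X (tmod M E) - Curv2.euler k X (tmod I E) = n * (Curv2.euler k X M - Curv2.euler k X I) :=
    fun {M} f _ hM hs => euler_tmod_sub f hfree hI hM hEc (dim_le_zero_of_notMem hdim
      (DevLib.isClosed_support (QCohLib.isCoh_kernel_cokernel f hI hM).2) (genericPoint_spec X)
      (fun h => h (DevLib.subsingleton_coker f hs)))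
  haveI := hp
  haveI := hq
  have h1 := key p (isCoh_of_isInvertible ParaFLib.isInvertible_structureModule) hps
  have h2 := key q (isCoh_of_isInvertible hL) hqs
  unfold Curv2.deg
  push_cast
  linarith

end Groth.Agent.CurveLib
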